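import Groth.Agent.TFCurv.K839.ExtTools
import Groth.Agent.Dual.K173.KosExt
import Groth.Agent.Models.TorRel
import Groth.Agent.S0563
import Groth.Agent.S0558
import Mathlib.RingTheory.KrullDimension.Zero
import Mathlib.RingTheory.HopkinsLevitzki
import Mathlib.RingTheory.KrullDimension.Regular
import Mathlib.LinearAlgebra.Dimension.Torsion.Finite
import Mathlib.RingTheory.FiniteLength

/-!
# `length Hom(J, R/J) ≤ 2 length (R/J)` for an ideal of finite colength of a two-dimensional regular
local ring
-/

set_option autoImplicit false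
universe u v

open CategoryTheory Abelian IsLocalRing K839.ExtTools

namespace Groth.Agent.HilbD.K759.ExtAlg

section length

variable {R : Type u} [CommRing R] {M₁ M₂ M₃ : Type v} [AddCommGroup M₁] [Module R M₁]
  [AddCommGroup M₂] [Module R M₂] [AddCommGroup M₃] [Module R M₃]

theorem length_eq_ker_add_range (b : M₂ →ₗ[R] M₃) :
    Module.length R M₂ = Module.length R (LinearMap.ker b) + Module.length R (LinearMap.range b) := by
  refine Module.length_eq_add_of_exact (LinearMap.ker b).subtype b.rangeRestrict
    (Submodule.injective_subtype _) b.surjective_rangeRestrict ?_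
  rw [LinearMap.exact_iff, LinearMap.ker_rangeRestrict, Submodule.range_subtype]

theorem length_le_of_exact (a : M₁ →ₗ[R] M₂) (b : M₂ →ₗ[R] M₃) (h : Function.Exact a b) :
    Module.length R M₂ ≤ Module.length R M₁ + Module.length R M₃ := by
  rw [length_eq_ker_add_range b]
  have h1 : LinearMap.ker b = LinearMap.range a := LinearMap.exact_iff.1 h
  rw [h1]
  exact add_le_add (Module.length_le_of_surjective a.rangeRestrict a.surjective_rangeRestrict)
    (Module.length_le_of_injective (LinearMap.range b).subtype (Submodule.injective_subtype _))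

end length

variable {R : Type u} [CommRing R]

/-- Subadditivity of the length of `Ext^n(-, N)`. -/
theorem length_ext_le_add {M₁ M₂ M₃ : Type u} [AddCommGroup M₁] [Module R M₁] [AddCommGroup M₂]
    [Module R M₂] [AddCommGroup M₃] [Module R M₃] {f : M₁ →ₗ[R] M₂} {g : M₂ →ₗ[R] M₃}
    (h : Function.Exact f g) (hf : Function.Injective f) (hg : Function.Surjective g)
    (N : ModuleCat.{u} R) (n : ℕ) :
    Module.length R (Ext (ModuleCat.of R M₂) N n) ≤
      Module.length R (Ext (ModuleCat.of R M₃) N n) + Module.length R (Ext (ModuleCat.of R M₁) N n) := by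
  have hS := sc_shortExact h hf hg
  refine length_le_of_exact (Ext.precompOfLinear (Ext.mk₀ (ModuleCat.ofHom g)) R N (zero_add n))
    (Ext.precompOfLinear (Ext.mk₀ (ModuleCat.ofHom f)) R N (zero_add n)) ?_
  intro x
  constructor
  · intro hx
    exact Ext.contravariant_sequence_exact₂ hS N x hx
  · rintro ⟨y, rfl⟩
    change (Ext.mk₀ (ModuleCat.ofHom f)).comp ((Ext.mk₀ (ModuleCat.ofHom g)).comp y (zero_add n))
      (zero_add n) = 0
    rw [Ext.mk₀_comp_mk₀_assoc]
    have : ModuleCat.ofHom f ≫ ModuleCat.ofHom g = 0 := (sc f g h).zero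
    rw [this, Ext.mk₀_zero, Ext.zero_comp]

/-- Transport of `Ext` along an isomorphism in the first variable. -/
noncomputable def extEquivLeft {N N' : ModuleCat.{u} R} (M : ModuleCat.{u} R) (e : N ≅ N') (n : ℕ) :
    Ext N' M n ≃ₗ[R] Ext N M n :=
  LinearEquiv.ofLinearMap (Ext.precompOfLinear (Ext.mk₀ e.hom) R M (zero_add n))
    (Ext.precompOfLinear (Ext.mk₀ e.inv) R M (zero_add n))
    (by ext x; simp) (by ext x; simp)

/-- For a two-dimensional regular local ring `Ext²(M, R)` has length at most that of `M`. -/
theorem length_ext_two_le [IsRegularLocalRing R] (h2 : ringKrullDim R = 2) (M : Type u)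
    [AddCommGroup M] [Module R M] (hM : IsFiniteLength R M) :
    Module.length R (Ext (ModuleCat.of R M) (ModuleCat.of R R) 2) ≤ Module.length R M := by
  induction hM with
  | @of_subsingleton M _ _ hM =>
    have h1 : Subsingleton (Ext (ModuleCat.of R M) (ModuleCat.of R R) 2) := by
      have := (ModuleCat.isZero_of_subsingleton (ModuleCat.of R M)).projective
      exact subsingleton_of_forall_eq 0 fun y => Ext.eq_zero_of_projective y
    rw [Module.length_eq_zero]
    exact zero_le
  | @of_simple_quotient M _ _ N hsimple hN ih =>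
    have h1 : Module.length R M = Module.length R N + Module.length R (M ⧸ N) :=
      Module.length_eq_add_of_exact N.subtype N.mkQ
        N.injective_subtype N.mkQ_surjective (LinearMap.exact_subtype_mkQ N)
    have h3 := length_ext_le_add (LinearMap.exact_subtype_mkQ N) N.injective_subtype
      N.mkQ_surjective (ModuleCat.of R R) 2
    refine h3.trans ?_
    rw [h1, add_comm]
    refine add_le_add ih ?_
    -- the simple quotient is the residue field
    obtain ⟨I, hI, ⟨e⟩⟩ := isSimpleModule_iff_quot_maximal.mp hsimple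
    obtain rfl := IsLocalRing.eq_maximalIdeal hI
    obtain ⟨rs, hrs, hreg⟩ := Models.TorRel.exists_regular_system R
    have hlen : rs.length = 2 := by
      have h4 := ringKrullDim_add_length_eq_ringKrullDim_of_isRegular rs hreg
      rw [hrs, h2] at h4
      have h5 : ringKrullDim (R ⧸ maximalIdeal R) = 0 :=
        ringKrullDim_eq_zero_of_isField
          ((Ideal.Quotient.maximal_ideal_iff_isField_quotient _).1 inferInstance)
      rw [h5, zero_add] at h4
      exact_mod_cast h4
    obtain ⟨e2⟩ := K173.KosExt.nonempty_ext_top rs hreg.toIsWeaklyRegular (ModuleCat.of R R)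
    rw [hlen, hrs] at e2
    have e3 : (R ⧸ (maximalIdeal R • (⊤ : Submodule R R))) ≃ₗ[R] (M ⧸ N) :=
      (Submodule.quotEquivOfEq _ _ (by simp)).trans e.symm
    have e4 := extEquivLeft (ModuleCat.of R R) e.toModuleIso 2
    exact ((e4.symm.trans e2).trans e3).length_eq.le

open Module in
/-- **The bound.** -/
theorem length_hom_le [IsRegularLocalRing R] (h2 : ringKrullDim R = 2) (J : Ideal R)
    (hJ : IsFiniteLength R (R ⧸ J)) :
    Module.length R (J →ₗ[R] R ⧸ J) ≤ 2 * Module.length R (R ⧸ J) := by
  classical
  have : IsDomain R := S0558.result R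
  have hQ : Module.length R (R ⧸ J) ≠ ⊤ := Module.length_ne_top_iff.2 hJ
  -- `J ≠ 0`
  have hJ0 : J ≠ ⊥ := by
    rintro rfl
    have h4 := (isFiniteLength_iff_isNoetherian_isArtinian.1 hJ).2
    have h5 : IsArtinianRing R :=
      (Submodule.quotEquivOfEqBot (⊥ : Submodule R R) rfl).isArtinian_iff.1 h4
    have h6 : ringKrullDim R = 0 := ringKrullDimZero_iff_ringKrullDim_eq_zero.1
      (isArtinianRing_iff_krullDimLE_zero.1 h5)
    rw [h2] at h6
    exact absurd h6 (by decide)
  -- the resolution
  obtain ⟨b, p, hp⟩ := Module.Finite.exists_fin' R J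
  let K := LinearMap.ker p
  have hK : Function.Exact K.subtype p := LinearMap.exact_subtype_ker_map p
  have hKi : Function.Injective K.subtype := K.injective_subtype
  have hJe : Function.Exact J.subtype (Submodule.mkQ J) := LinearMap.exact_subtype_mkQ J
  -- projective dimensions
  have pdQ : HasProjectiveDimensionLT (ModuleCat.of R (R ⧸ J)) 3 := by
    exact S0563.result R 2 h2 _
  have pR : Projective (ModuleCat.of R R) := ModuleCat.projective_of_free (Module.Free.chooseBasis R R)
  have pF : Projective (ModuleCat.of R (Fin b → R)) :=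
    ModuleCat.projective_of_free (M := ModuleCat.of R (Fin b → R)) (Pi.basisFun R (Fin b))
  have pdJ : HasProjectiveDimensionLT (ModuleCat.of R J) 2 :=
    (sc_shortExact hJe J.injective_subtype J.mkQ_surjective).hasProjectiveDimensionLT_X₁ 2
      (by dsimp; exact hasProjectiveDimensionLT_of_ge _ 1 2 (by omega)) (by dsimp; exact pdQ)
  have pdK : HasProjectiveDimensionLT (ModuleCat.of R K) 1 :=
    (sc_shortExact hK hKi hp).hasProjectiveDimensionLT_X₁ 1 (by dsimp; infer_instance)
      (by dsimp; exact pdJ)
  have pK : Projective (ModuleCat.of R K) := projective_iff_hasProjectiveDimensionLT_one.2 pdK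
  have pK' : Module.Projective R K := (IsProjective.iff_projective K).2 pK
  have pK'' : Module.Free R K := Module.free_of_flat_of_isLocalRing
  -- ranks
  have hrk : Module.finrank R K + 1 = b := by
    have h3 : Module.finrank R (Fin b → R) = b := by simp
    have h4 := Submodule.finrank_quotient_add_finrank K
    have h5 : Module.finrank R ((Fin b → R) ⧸ K) = Module.finrank R J :=
      (p.quotKerEquivOfSurjective hp).finrank_eq
    have h6 := Submodule.finrank_quotient_add_finrank J
    have h7 : Module.finrank R (R ⧸ J) = 0 := by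
      rw [Module.finrank_eq_zero_iff_isTorsion]
      obtain ⟨x, hx, hx0⟩ := Submodule.exists_mem_ne_zero_of_ne_bot hJ0
      intro q
      refine ⟨⟨x, mem_nonZeroDivisors_of_ne_zero hx0⟩, ?_⟩
      obtain ⟨q, rfl⟩ := Ideal.Quotient.mk_surjective q
      show x • (Ideal.Quotient.mk J q) = 0
      rw [← Ideal.Quotient.mk_eq_mk, ← Submodule.Quotient.mk_smul, Submodule.Quotient.mk_eq_zero]
      exact J.mul_mem_right _ hx
    rw [Module.finrank_self] at h6
    omega
  -- lengths of `Hom` out of free modules
  have lF : Module.length R ((Fin b → R) →ₗ[R] (R ⧸ J)) = b * Module.length R (R ⧸ J) := by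
    rw [((Pi.basisFun R (Fin b)).constr R (M' := R ⧸ J)).symm.length_eq, Module.length_pi]
    simp
  have lK : Module.length R (K →ₗ[R] (R ⧸ J)) = Module.finrank R K * Module.length R (R ⧸ J) := by
    rw [((Module.finBasis R K).constr R (M' := R ⧸ J)).symm.length_eq, Module.length_pi]
    simp
  -- the `Ext` part
  have e1 : Subsingleton (Ext (ModuleCat.of R (Fin b → R)) (ModuleCat.of R (R ⧸ J)) 1) :=
    subsingleton_of_forall_eq 0 fun y => Ext.eq_zero_of_projective y
  have e2 : ∀ n, Subsingleton (Ext (ModuleCat.of R R) (ModuleCat.of R (R ⧸ J)) (n + 1)) := fun n =>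
    subsingleton_of_forall_eq 0 fun y => Ext.eq_zero_of_projective y
  have c1 : Module.length R ((K →ₗ[R] (R ⧸ J)) ⧸ LinearMap.range (LinearMap.lcomp R (R ⧸ J) K.subtype)) ≤
      Module.length R (R ⧸ J) := by
    rw [((ext1Contra hK hKi hp (R ⧸ J) e1).trans
      (shiftContra hJe J.injective_subtype J.mkQ_surjective (R ⧸ J) 1 (e2 0) (e2 1))).length_eq]
    have hS := sc_shortExact hJe J.injective_subtype J.mkQ_surjective
    have h3 : Module.length R (Ext (ModuleCat.of R (R ⧸ J)) (ModuleCat.of R (R ⧸ J)) 2) ≤
        Module.length R (Ext (ModuleCat.of R (R ⧸ J)) (ModuleCat.of R R) 2) := by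
      refine Module.length_le_of_surjective
        (Ext.postcompOfLinear (Ext.mk₀ (ModuleCat.ofHom J.mkQ)) R (ModuleCat.of R (R ⧸ J))
          (add_zero 2)) ?_
      intro x
      have h4 : Subsingleton (Ext (ModuleCat.of R (R ⧸ J)) (ModuleCat.of R J) 3) :=
        HasProjectiveDimensionLT.subsingleton _ 3 3 le_rfl _
      exact Ext.covariant_sequence_exact₃ (ModuleCat.of R (R ⧸ J)) hS x rfl (h4.elim _ _)
    exact h3.trans (length_ext_two_le h2 _ hJ)
  -- counting
  have l1 := length_eq_ker_add_range (LinearMap.lcomp R (R ⧸ J) K.subtype)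
  have l2 : Module.length R (K →ₗ[R] (R ⧸ J)) =
      Module.length R (LinearMap.range (LinearMap.lcomp R (R ⧸ J) K.subtype)) +
      Module.length R ((K →ₗ[R] (R ⧸ J)) ⧸ LinearMap.range (LinearMap.lcomp R (R ⧸ J) K.subtype)) :=
    Module.length_eq_add_of_exact (Submodule.subtype _) (Submodule.mkQ _)
      (Submodule.injective_subtype _) (Submodule.mkQ_surjective _) (LinearMap.exact_subtype_mkQ _)
  have l3 : Module.length R (J →ₗ[R] (R ⧸ J)) =
      Module.length R (LinearMap.ker (LinearMap.lcomp R (R ⧸ J) K.subtype)) := by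
    apply le_antisymm
    · refine Module.length_le_of_injective (LinearMap.codRestrict _ (LinearMap.lcomp R (R ⧸ J) p) ?_) ?_
      · intro f
        ext x
        show f (p x) = 0
        rw [show p x = 0 from x.2, map_zero]
      · intro f g hfg
        ext x
        obtain ⟨y, rfl⟩ := hp x
        have := congrArg (fun h => h.1 y) hfg
        exact this
    · refine Module.length_le_of_surjective (LinearMap.codRestrict _ (LinearMap.lcomp R (R ⧸ J) p) ?_) ?_
      · intro f
        ext x
        show f (p x) = 0
        rw [show p x = 0 from x.2, map_zero]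
      · rintro ⟨g, hg⟩
        have h3 : LinearMap.ker p ≤ LinearMap.ker g := by
          intro x hx
          exact congrArg (fun h => h ⟨x, hx⟩) hg
        refine ⟨(LinearMap.ker p).liftQ g h3 ∘ₗ (p.quotKerEquivOfSurjective hp).symm.toLinearMap, ?_⟩
        refine Subtype.ext (LinearMap.ext fun x => ?_)
        show (LinearMap.ker p).liftQ g h3 ((p.quotKerEquivOfSurjective hp).symm (p x)) = g x
        have h4 : (p.quotKerEquivOfSurjective hp).symm (p x) = Submodule.Quotient.mk x := by
          rw [LinearEquiv.symm_apply_eq]; rfl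
        rw [h4]; rfl
  rw [lF] at l1
  rw [lK] at l2
  rw [← l3] at l1
  set ℓ := Module.length R (R ⧸ J)
  set r := Module.length R (LinearMap.range (LinearMap.lcomp R (R ⧸ J) K.subtype))
  set c := Module.length R ((K →ₗ[R] (R ⧸ J)) ⧸ LinearMap.range (LinearMap.lcomp R (R ⧸ J) K.subtype))
  set h := Module.length R (J →ₗ[R] (R ⧸ J))
  have hb : ((b : ℕ) : ℕ∞) = (Module.finrank R K : ℕ∞) + 1 := by
    have h6 := congrArg (Nat.cast : ℕ → ℕ∞) hrk
    rw [← h6]; push_cast; rfl
  have hr : r ≠ ⊤ := by
    intro hr
    rw [hr, top_add] at l2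
    obtain ⟨m, hm⟩ := ENat.ne_top_iff_exists.1 hQ
    rw [← hm] at l2
    exact ENat.coe_ne_top _ ((Nat.cast_mul _ _).trans l2)
  have h5 : h + r ≤ 2 * ℓ + r := by
    rw [← l1, hb, add_mul, one_mul, l2, two_mul]
    calc r + c + ℓ ≤ r + ℓ + ℓ := by gcongr
      _ = ℓ + ℓ + r := by ring
  exact (ENat.add_le_add_iff_right hr).1 h5

end Groth.Agent.HilbD.K759.ExtAlg
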