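import Groth.Agent.HilbD.K759.ExtAlg
import Mathlib.RingTheory.Localization.Module
import Mathlib.RingTheory.Localization.Algebra
import Mathlib.RingTheory.Spectrum.Prime.Topology
import Mathlib.RingTheory.Artinian.Module
import Mathlib.RingTheory.Jacobson.Ring
import Mathlib.FieldTheory.IsAlgClosed.Basic
import Mathlib.LinearAlgebra.FiniteDimensional.Basic

/-!
# `dim_k Hom_A(I, A/I) ≤ 2 dim_k (A/I)` for an ideal of finite colength of a two-dimensional regular
algebra over an algebraically closed field
-/

set_option autoImplicit false
universe u v w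

open IsLocalRing Module

namespace Groth.Agent.HilbD.K759.ExtGlob

section len

variable {k : Type u} [Field k] {R : Type v} [CommRing R] [IsLocalRing R] [Algebra k R]

theorem length_eq_length (hk : ∀ r : R, ∃ c : k, r - algebraMap k R c ∈ maximalIdeal R)
    {M : Type w} [AddCommGroup M] [Module R M] (hM : IsFiniteLength R M) :
    ∀ [Module k M] [IsScalarTower k R M], Module.length R M = Module.length k M := by
  induction hM with
  | @of_subsingleton M _ _ hM =>
    intro _ _
    rw [Module.length_eq_zero, Module.length_eq_zero]
  | @of_simple_quotient M _ _ N hsimple hN ih =>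
    intro _ _
    obtain ⟨I, hI, ⟨e⟩⟩ := isSimpleModule_iff_quot_maximal.mp hsimple
    obtain rfl := IsLocalRing.eq_maximalIdeal hI
    have h1 : Module.length R M = Module.length R N + Module.length R (M ⧸ N) :=
      Module.length_eq_add_of_exact N.subtype N.mkQ
        N.injective_subtype N.mkQ_surjective (LinearMap.exact_subtype_mkQ N)
    have h2 : Module.length k M = Module.length k N + Module.length k (M ⧸ N) :=
      Module.length_eq_add_of_exact (N.subtype.restrictScalars k) (N.mkQ.restrictScalars k)
        N.injective_subtype N.mkQ_surjective (LinearMap.exact_subtype_mkQ N)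
    rw [h1, h2, ih]
    congr 1
    rw [(e.restrictScalars k).length_eq, e.length_eq]
    have hs : Function.Surjective (algebraMap k (R ⧸ maximalIdeal R)) := by
      intro x
      obtain ⟨r, rfl⟩ := Ideal.Quotient.mk_surjective x
      obtain ⟨c, hc⟩ := hk r
      refine ⟨c, ?_⟩
      have := (Ideal.Quotient.eq_zero_iff_mem).2 hc
      rw [map_sub, sub_eq_zero] at this
      exact this.symm
    rw [Module.length_eq_of_surjective (S := k) (R := R ⧸ maximalIdeal R) hs,
      Module.length_eq_of_surjective (S := R) (R := R ⧸ maximalIdeal R)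
        Ideal.Quotient.mk_surjective]

theorem length_eq_finrank (hk : ∀ r : R, ∃ c : k, r - algebraMap k R c ∈ maximalIdeal R)
    (M : Type w) [AddCommGroup M] [Module R M] [Module k M] [IsScalarTower k R M]
    [Module.Finite k M] : Module.length R M = (Module.finrank k M : ℕ∞) := by
  have h1 : IsNoetherian R M := isNoetherian_of_tower k inferInstance
  have h2 : IsArtinian R M := isArtinian_of_tower k inferInstance
  rw [length_eq_length (k := k) hk (isFiniteLength_iff_isNoetherian_isArtinian.2 ⟨h1, h2⟩),
    Module.length_eq_finrank]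

end len

section loc

variable {k : Type u} [Field k] {A : Type u} [CommRing A] [Algebra k A] [IsNoetherianRing A]
  (n : Ideal A) [n.IsMaximal] (hk : ∀ a : A, ∃ c : k, a - algebraMap k A c ∈ n)

omit [IsNoetherianRing A] in
include hk in
lemma exists_sub_mem_maximalIdeal (r : Localization.AtPrime n) :
    ∃ c : k, r - algebraMap k (Localization.AtPrime n) c ∈
      maximalIdeal (Localization.AtPrime n) := by
  obtain ⟨a, s, rfl⟩ := IsLocalization.exists_mk'_eq n.primeCompl r
  obtain ⟨ca, hca⟩ := hk a
  obtain ⟨cs, hcs⟩ := hk s
  have hcs0 : cs ≠ 0 := by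
    rintro rfl
    rw [map_zero, sub_zero] at hcs
    exact s.2 hcs
  refine ⟨ca / cs, ?_⟩
  have h1 : IsUnit (algebraMap A (Localization.AtPrime n) s) := IsLocalization.map_units _ s
  rw [← Ideal.unit_mul_mem_iff_mem _ h1, mul_sub, IsLocalization.mk'_spec']
  rw [IsScalarTower.algebraMap_apply k A (Localization.AtPrime n), ← map_mul, ← map_sub]
  rw [← Localization.AtPrime.map_eq_maximalIdeal]
  apply Ideal.mem_map_of_mem
  have h2 : a - s * algebraMap k A (ca / cs) =
      (a - algebraMap k A ca) - (s - algebraMap k A cs) * algebraMap k A (ca / cs) := by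
    have h3 : algebraMap k A ca = algebraMap k A cs * algebraMap k A (ca / cs) := by
      rw [← map_mul, mul_div_cancel₀ _ hcs0]
    rw [h3]; ring
  rw [h2]
  exact Ideal.sub_mem _ hca (Ideal.mul_mem_right _ _ hcs)

include hk in
theorem finite_and_finrank_hom_le [IsRegularLocalRing (Localization.AtPrime n)]
    (h2 : ringKrullDim (Localization.AtPrime n) = 2) (I : Ideal A)
    (N : Type u) [AddCommGroup N] [Module A N] [Module k N] [IsScalarTower k A N]
    [Module (Localization.AtPrime n) N] [IsScalarTower A (Localization.AtPrime n) N]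
    [IsScalarTower k (Localization.AtPrime n) N] [Module.Finite k N]
    (e : N ≃ₗ[Localization.AtPrime n] (Localization.AtPrime n) ⧸ I.map (algebraMap A (Localization.AtPrime n))) :
    Module.Finite k (I →ₗ[A] N) ∧
    Module.finrank k (I →ₗ[A] N) ≤ 2 * Module.finrank k N := by
  set R := Localization.AtPrime n with hR
  set J : Ideal R := I.map (algebraMap A R) with hJ
  have hk' : ∀ r : R, ∃ c : k, r - algebraMap k R c ∈ maximalIdeal R :=
    exists_sub_mem_maximalIdeal n hk
  have hu : ∀ x : n.primeCompl, IsUnit ((algebraMap A (Module.End A N)) x) := by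
    intro x
    have h3 : IsUnit (algebraMap A R x) := IsLocalization.map_units _ x
    rw [Module.End.isUnit_iff]
    constructor
    · intro a b hab
      have hab' : (algebraMap A R x) • a = (algebraMap A R x) • b := by
        rw [algebraMap_smul, algebraMap_smul]; exact hab
      exact (h3.smul_left_cancel).1 hab'
    · intro a
      obtain ⟨u, hu⟩ := h3
      refine ⟨(↑u⁻¹ : R) • a, ?_⟩
      show (x : A) • ((↑u⁻¹ : R) • a) = a
      rw [← algebraMap_smul R (x : A), ← hu, smul_smul, Units.mul_inv, one_smul]
  -- the extension map
  let Φ : (I →ₗ[A] N) →ₗ[k] (J →ₗ[R] N) :=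
    { toFun := fun f => (IsLocalizedModule.lift n.primeCompl (Algebra.idealMap R I) f hu).extendScalarsOfIsLocalization n.primeCompl R
      map_add' := by
        intro f g
        have h3 : IsLocalizedModule.lift n.primeCompl (Algebra.idealMap R I) (f + g) hu =
            IsLocalizedModule.lift n.primeCompl (Algebra.idealMap R I) f hu +
            IsLocalizedModule.lift n.primeCompl (Algebra.idealMap R I) g hu := by
          apply IsLocalizedModule.ext n.primeCompl (Algebra.idealMap R I) hu
          rw [IsLocalizedModule.lift_comp, LinearMap.add_comp, IsLocalizedModule.lift_comp,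
            IsLocalizedModule.lift_comp]
        rw [h3]
        rfl
      map_smul' := by
        intro c f
        have h3 : IsLocalizedModule.lift n.primeCompl (Algebra.idealMap R I) (c • f) hu =
            c • IsLocalizedModule.lift n.primeCompl (Algebra.idealMap R I) f hu := by
          apply IsLocalizedModule.ext n.primeCompl (Algebra.idealMap R I) hu
          rw [IsLocalizedModule.lift_comp, LinearMap.smul_comp, IsLocalizedModule.lift_comp]
        rw [h3]
        rfl }
  have hΦ : Function.Injective Φ := by
    intro f g hfg
    have h3 : IsLocalizedModule.lift n.primeCompl (Algebra.idealMap R I) f hu =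
        IsLocalizedModule.lift n.primeCompl (Algebra.idealMap R I) g hu := by
      ext x
      exact congrArg (fun h => h x) hfg
    rw [← IsLocalizedModule.lift_comp n.primeCompl (Algebra.idealMap R I) f hu, h3,
      IsLocalizedModule.lift_comp]
  -- finiteness
  have hfin : Module.Finite k (J →ₗ[R] N) := by
    obtain ⟨b, p, hp⟩ := Module.Finite.exists_fin' R J
    let Ψ : (J →ₗ[R] N) →ₗ[k] (Fin b → N) :=
      { toFun := fun f i => f (p (Pi.single i 1))
        map_add' := fun f g => rfl
        map_smul' := fun c f => rfl }
    refine Module.Finite.of_injective Ψ ?_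
    intro f g hfg
    have h4 : f ∘ₗ p = g ∘ₗ p := by
      apply LinearMap.pi_ext'
      intro i
      ext
      exact congrFun hfg i
    ext x
    obtain ⟨y, rfl⟩ := hp x
    exact congrArg (fun h => h y) h4
  refine ⟨Module.Finite.of_injective Φ hΦ, (LinearMap.finrank_le_finrank_of_injective hΦ).trans ?_⟩
  have hN : IsFiniteLength R N := by
    have h1 : IsNoetherian R N := isNoetherian_of_tower k inferInstance
    have h2 : IsArtinian R N := isArtinian_of_tower k inferInstance
    exact isFiniteLength_iff_isNoetherian_isArtinian.2 ⟨h1, h2⟩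
  have hQ : IsFiniteLength R (R ⧸ J) := e.isFiniteLength hN
  have h5 := ExtAlg.length_hom_le h2 J hQ
  rw [← e.length_eq, length_eq_finrank hk' N] at h5
  have h6 : Module.length R (J →ₗ[R] N) = Module.length R (J →ₗ[R] R ⧸ J) :=
    (LinearEquiv.congrRight e).length_eq
  rw [← h6, length_eq_finrank hk' (J →ₗ[R] N)] at h5
  exact_mod_cast h5

end loc

/-- Localization at a point of the maximal spectrum. -/
abbrev LocAt {C : Type u} [CommRing C] (m : MaximalSpectrum C) : Type u := Localization.AtPrime m.asIdeal

/-- **Global version.** -/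
theorem finrank_hom_le {k : Type u} [Field k] {A : Type u} [CommRing A]
    [Algebra k A] [IsNoetherianRing A] (I : Ideal A) [Module.Finite k (A ⧸ I)]
    (hk : ∀ (n : Ideal A), n.IsMaximal → I ≤ n → ∀ a : A, ∃ c : k, a - algebraMap k A c ∈ n)
    (hreg : ∀ (n : Ideal A) [n.IsMaximal], I ≤ n →
      IsRegularLocalRing (Localization.AtPrime n) ∧ ringKrullDim (Localization.AtPrime n) = 2) :
    Module.Finite k (I →ₗ[A] A ⧸ I) ∧
    Module.finrank k (I →ₗ[A] A ⧸ I) ≤ 2 * Module.finrank k (A ⧸ I) := by
  classical
  set C := A ⧸ I with hC
  have hart : IsArtinianRing C := isArtinian_of_tower k inferInstance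
  have key : ∀ m : MaximalSpectrum C, Module.Finite k (I →ₗ[A] LocAt m) ∧ Module.Finite k (LocAt m) ∧
      Module.finrank k (I →ₗ[A] LocAt m) ≤ 2 * Module.finrank k (LocAt m) := by
    intro m
    let n : Ideal A := m.asIdeal.comap (Ideal.Quotient.mk I)
    have hm : m.asIdeal.IsMaximal := m.isMaximal
    have hn : n.IsMaximal := Ideal.comap_isMaximal_of_surjective _ Ideal.Quotient.mk_surjective
    have hIn : I ≤ n := by
      intro a ha
      rw [Ideal.mem_comap, Ideal.Quotient.eq_zero_iff_mem.2 ha]
      exact m.asIdeal.zero_mem
    obtain ⟨hr, h2⟩ := hreg n hIn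
    let R := Localization.AtPrime n
    have hT : Submonoid.map (Ideal.Quotient.mk I) n.primeCompl = m.asIdeal.primeCompl := by
      ext x
      constructor
      · rintro ⟨a, ha, rfl⟩
        exact ha
      · intro hx
        obtain ⟨a, rfl⟩ := Ideal.Quotient.mk_surjective x
        exact ⟨a, hx, rfl⟩
    let g : R →+* LocAt m := IsLocalization.map (LocAt m) (Ideal.Quotient.mk I) (hT.symm ▸ n.primeCompl.le_comap_map)
    have hker : RingHom.ker g = I.map (algebraMap A R) := by
      have h3 := IsLocalization.ker_map (S := R) (Q := LocAt m) (g := Ideal.Quotient.mk I)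
        (M := n.primeCompl) (T := m.asIdeal.primeCompl) hT
      rw [Ideal.mk_ker] at h3
      exact h3
    have hga : ∀ a : A, g (algebraMap A R a) = algebraMap A (LocAt m) a := fun a =>
      IsLocalization.map_eq _ a
    have hsC : Function.Surjective (algebraMap C (LocAt m)) :=
      IsArtinianRing.localization_surjective m.asIdeal.primeCompl (LocAt m)
    have hsg : Function.Surjective g := by
      intro x
      obtain ⟨c, rfl⟩ := hsC x
      obtain ⟨a, rfl⟩ := Ideal.Quotient.mk_surjective c
      exact ⟨algebraMap A R a, hga a⟩
    have hfin : Module.Finite k (LocAt m) :=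
      Module.Finite.of_surjective ((IsScalarTower.toAlgHom k C (LocAt m)).toLinearMap) hsC
    let : Algebra R (LocAt m) := g.toAlgebra
    have t1 : IsScalarTower A R (LocAt m) := IsScalarTower.of_algebraMap_eq fun a => (hga a).symm
    have t2 : IsScalarTower k R (LocAt m) := IsScalarTower.of_algebraMap_eq fun c => by
      rw [IsScalarTower.algebraMap_apply k A R, IsScalarTower.algebraMap_apply k A (LocAt m)]
      exact (hga _).symm
    have hker' : LinearMap.ker (Algebra.linearMap R (LocAt m)) = I.map (algebraMap A R) := by
      rw [← hker]; rfl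
    have e : LocAt m ≃ₗ[R] R ⧸ I.map (algebraMap A R) :=
      ((Submodule.quotEquivOfEq _ _ hker'.symm).trans
        ((Algebra.linearMap R (LocAt m)).quotKerEquivOfSurjective hsg)).symm
    obtain ⟨h4, h5⟩ := finite_and_finrank_hom_le n (hk n hn hIn) h2 I (LocAt m) e
    exact ⟨h4, hfin, h5⟩
  have hF : Finite (MaximalSpectrum C) := inferInstance
  have : Fintype (MaximalSpectrum C) := Fintype.ofFinite _
  have f1 : ∀ m, Module.Finite k (I →ₗ[A] LocAt m) := fun m => (key m).1
  have f2 : ∀ m, Module.Finite k (LocAt m) := fun m => (key m).2.1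
  have hb := (MaximalSpectrum.toPiLocalizationEquiv C).bijective
  let E : C →ₗ[k] (∀ m : MaximalSpectrum C, LocAt m) :=
    { toFun := fun c m => algebraMap C (LocAt m) c
      map_add' := fun a b => funext fun m => map_add (algebraMap C (LocAt m)) a b
      map_smul' := fun c a => by
        funext m
        show algebraMap C (LocAt m) (c • a) = c • algebraMap C (LocAt m) a
        rw [Algebra.smul_def, map_mul, Algebra.smul_def, ← IsScalarTower.algebraMap_apply] }
  have hE : Function.Bijective E := hb
  let Θ : (I →ₗ[A] C) →ₗ[k] (∀ m : MaximalSpectrum C, I →ₗ[A] LocAt m) :=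
    { toFun := fun f m => (IsScalarTower.toAlgHom A C (LocAt m)).toLinearMap ∘ₗ f
      map_add' := fun f g => funext fun m => LinearMap.ext fun x =>
        map_add (algebraMap C (LocAt m)) (f x) (g x)
      map_smul' := fun c f => by
        funext m
        refine LinearMap.ext fun x => ?_
        show algebraMap C (LocAt m) (c • f x) = c • algebraMap C (LocAt m) (f x)
        rw [Algebra.smul_def, map_mul, Algebra.smul_def, ← IsScalarTower.algebraMap_apply] }
  have hΘ : Function.Injective Θ := by
    intro f g hfg
    refine LinearMap.ext fun x => hE.1 (funext fun m => ?_)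
    exact congrArg (fun h => h m x) hfg
  refine ⟨Module.Finite.of_injective Θ hΘ, (LinearMap.finrank_le_finrank_of_injective hΘ).trans ?_⟩
  rw [(LinearEquiv.ofBijective E hE).finrank_eq, Module.finrank_pi_fintype, Module.finrank_pi_fintype,
    Finset.mul_sum]
  exact Finset.sum_le_sum fun m _ => (key m).2.2

end Groth.Agent.HilbD.K759.ExtGlob
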