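import Groth.Agent.HilbD.K221.FldPt
import Groth.Agent.CalgC.DimFT
import Mathlib.RingTheory.NoetherNormalization
import Mathlib.FieldTheory.IsAlgClosed.AlgebraicClosure
import Mathlib.RingTheory.AlgebraicIndependent.AlgebraicClosure

/-!
# Generic reduced subschemes: a lower bound for the dimension of the Hilbert scheme of points

`A` a domain of finite type of dimension `r ≥ 1` over a field `k`, `Spec A ⊆ X` open. The Hilbert scheme
of `d` points of `X` has a point of transcendence degree at least `d r`: the `d` independent generic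
points of `Spec A`.
-/

set_option autoImplicit false
set_option backward.isDefEq.respectTransparency false

universe u

open CategoryTheory CategoryTheory.Limits AlgebraicGeometry TensorProduct

namespace Groth.Agent.HilbD.K759.LowPt

open Groth.Agent.Sga4h.GeoDim K221.AffPt K221.FldPt

section Alg

variable {k : Type u} [Field k] {A : Type u} [CommRing A] [Algebra k A] {K : Type u} [Field K] [Algebra k K]

/-- Extension of homomorphisms to an algebraically closed field. -/
theorem exists_lift [IsDomain A] [IsAlgClosed K] {r : ℕ} (g : MvPolynomial (Fin r) k →ₐ[k] A)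
    (hg : Function.Injective g) (hi : g.IsIntegral) (t : Fin r → K) (ht : AlgebraicIndependent k t) :
    ∃ φ : A →ₐ[k] K, ∀ s, φ (g (MvPolynomial.X s)) = t s := by
  let P := MvPolynomial (Fin r) k
  let : Algebra P A := g.toRingHom.toAlgebra
  let τ : P →ₐ[k] K := MvPolynomial.aeval t
  let : Algebra P K := τ.toRingHom.toAlgebra
  have h1 : FaithfulSMul P A := (faithfulSMul_iff_algebraMap_injective P A).2 hg
  have h2 : FaithfulSMul P K := (faithfulSMul_iff_algebraMap_injective P K).2 ht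
  have h3 : Algebra.IsIntegral P A := ⟨hi⟩
  have h4 : Algebra.IsAlgebraic P A := inferInstance
  let ψ : A →ₐ[P] K := IsAlgClosed.lift
  refine ⟨{ ψ.toRingHom with
    commutes' := fun c => ?_ }, fun s => ?_⟩
  · have h5 : algebraMap k A c = algebraMap P A (MvPolynomial.C c) := (g.commutes c).symm
    change ψ (algebraMap k A c) = _
    rw [h5, ψ.commutes]
    exact τ.commutes c
  · change ψ (algebraMap P A (MvPolynomial.X s)) = t s
    rw [ψ.commutes]
    exact MvPolynomial.aeval_X t s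

/-- Evaluation at a point. -/
noncomputable def ev (φ : A →ₐ[k] K) : K ⊗[k] A →ₐ[K] K :=
  Algebra.TensorProduct.lift (Algebra.ofId K K) φ (fun _ _ => Commute.all _ _)

@[simp] lemma ev_tmul (φ : A →ₐ[k] K) (c : K) (a : A) : ev φ (c ⊗ₜ a) = c * φ a := by
  simp [ev]

variable {d : ℕ} (φ : Fin d → A →ₐ[k] K)

/-- The product of the evaluations. -/
noncomputable def Ev : K ⊗[k] A →ₐ[K] (Fin d → K) := AlgHom.pi fun i => ev (φ i)

lemma Ev_apply (x : K ⊗[k] A) (i : Fin d) : Ev φ x i = ev (φ i) x := rfl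

lemma Ev_surjective (hφ : ∀ i j, i ≠ j → φ i ≠ φ j) : Function.Surjective (Ev φ) := by
  intro v
  have hmax : ∀ i, (RingHom.ker (ev (φ i)).toRingHom).IsMaximal := fun i =>
    RingHom.ker_isMaximal_of_surjective _ fun c => ⟨c ⊗ₜ 1, by
      change ev (φ i) (c ⊗ₜ 1) = c
      simp⟩
  have hne : ∀ i j, i ≠ j → RingHom.ker (ev (φ i)).toRingHom ≠ RingHom.ker (ev (φ j)).toRingHom := by
    intro i j hij h
    apply hφ i j hij
    ext a
    have h1 : (1 ⊗ₜ a - (φ i a) ⊗ₜ 1 : K ⊗[k] A) ∈ RingHom.ker (ev (φ i)).toRingHom := by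
      rw [RingHom.mem_ker]
      change ev (φ i) _ = 0
      rw [map_sub, ev_tmul, ev_tmul, map_one, mul_one, one_mul, sub_self]
    rw [h, RingHom.mem_ker] at h1
    change ev (φ j) _ = 0 at h1
    rw [map_sub, ev_tmul, ev_tmul, map_one, mul_one, one_mul, sub_eq_zero] at h1
    exact h1.symm
  have hco : Pairwise (Function.onFun IsCoprime fun i => RingHom.ker (ev (φ i)).toRingHom) := by
    intro i j hij
    have := hmax i
    have := hmax j
    exact Ideal.isCoprime_of_isMaximal (hne i j hij)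
  obtain ⟨x, hx⟩ := Ideal.pi_quotient_surjective hco fun i => Ideal.Quotient.mk _ (v i ⊗ₜ 1)
  refine ⟨x, funext fun i => ?_⟩
  have h1 := hx i
  have h2 : x - v i ⊗ₜ 1 ∈ RingHom.ker (ev (φ i)).toRingHom := Ideal.Quotient.eq.1 h1
  rw [RingHom.mem_ker] at h2
  change ev (φ i) _ = 0 at h2
  rw [map_sub, ev_tmul, map_one, mul_one, sub_eq_zero] at h2
  exact h2

/-- The ideal of the set of points. -/
noncomputable abbrev Jpt : Ideal (K ⊗[k] A) := RingHom.ker (Ev φ).toRingHom

lemma isFinLocFree (hφ : ∀ i j, i ≠ j → φ i ≠ φ j) : Mor2.IsFinLocFreeOfDeg d (zpi (Jpt φ)) := by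
  rw [isFinLocFreeOfDeg_zpi_iff]
  let e : (K ⊗[k] A ⧸ Jpt φ) ≃ₐ[K] (Fin d → K) :=
    Ideal.quotientKerAlgEquivOfSurjective (f := Ev φ) (Ev_surjective φ hφ)
  refine ⟨Module.Finite.equiv e.symm.toLinearEquiv, ?_⟩
  rw [e.toLinearEquiv.finrank_eq]
  simp

/-- The coordinates of the points are integral over a field of definition. -/
theorem isIntegralElem_of_map {F : Type u} [Field F] [Algebra k F] (ψ : F →ₐ[k] K)
    (J₀ : Ideal (F ⊗[k] A)) (hJ₀ : Mor2.IsFinLocFreeOfDeg d (zpi J₀)) (h : J₀.map (bm A ψ) ≤ Jpt φ)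
    (i : Fin d) (a : A) : (ψ : F →+* K).IsIntegralElem (φ i a) := by
  let : Algebra F K := (ψ : F →+* K).toAlgebra
  have : IsScalarTower k F K := .of_algebraMap_eq' ψ.comp_algebraMap.symm
  obtain ⟨h2, -⟩ := (isFinLocFreeOfDeg_zpi_iff J₀).1 hJ₀
  let ρ : F ⊗[k] A →ₐ[F] K :=
    Algebra.TensorProduct.lift (Algebra.ofId F K) (φ i) (fun _ _ => Commute.all _ _)
  have hρ : ∀ x, ρ x = ev (φ i) (bm A ψ x) := by
    intro x
    induction x with
    | zero => simp
    | add x y hx hy => rw [map_add, map_add, map_add, hx, hy]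
    | tmul c a =>
      have h3 : bm A ψ (c ⊗ₜ a) = ψ c ⊗ₜ a := rfl
      rw [h3, ev_tmul]
      change algebraMap F K c * φ i a = _
      rfl
  have hker : ∀ x ∈ J₀, ρ x = 0 := by
    intro x hx
    rw [hρ]
    have h3 : bm A ψ x ∈ Jpt φ := h (Ideal.mem_map_of_mem _ hx)
    rw [RingHom.mem_ker] at h3
    exact congrFun h3 i
  let q : (F ⊗[k] A ⧸ J₀) →ₐ[F] K := Ideal.Quotient.liftₐ J₀ ρ hker
  have h4 : IsIntegral F (Ideal.Quotient.mk J₀ (1 ⊗ₜ a)) := Algebra.IsIntegral.isIntegral _
  have h5 := h4.map q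
  have h6 : q (Ideal.Quotient.mk J₀ (1 ⊗ₜ a)) = φ i a := by
    change ρ (1 ⊗ₜ a) = _
    simp [ρ]
  rw [h6] at h5
  exact h5

/-- The coordinates of the points are algebraic over a field of definition. -/
theorem isAlgebraic_of_defOver (hφ : ∀ i j, i ≠ j → φ i ≠ φ j) (F : IntermediateField k K)
    (hF : DefOver F (Jpt φ)) (i : Fin d) (a : A) : IsAlgebraic F (φ i a) := by
  obtain ⟨J₀, hJ₀⟩ := hF
  have h1 : Mor2.IsFinLocFreeOfDeg d (zpi J₀) := isFinLocFreeOfDeg_zpi_of_map F.val J₀
    (by rw [hJ₀]; exact isFinLocFree φ hφ)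
  have h2 : IsIntegral F (φ i a) := isIntegralElem_of_map φ F.val J₀ h1 hJ₀.le i a
  exact h2.isAlgebraic

/-- Algebraically independent elements algebraic over an intermediate field. -/
theorem le_trdeg (F : IntermediateField k K) {ι : Type u} (t : ι → K) (ht : AlgebraicIndependent k t)
    (hF : ∀ i, IsAlgebraic F (t i)) : Cardinal.mk ι ≤ Algebra.trdeg k F := by
  let E := algebraicClosure F K
  have h1 : Algebra.trdeg k F + Algebra.trdeg F E = Algebra.trdeg k E := trdeg_add_eq k F
  have h2 : Algebra.trdeg F E = 0 := trdeg_eq_zero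
  let t' : ι → E := fun i => ⟨t i, mem_algebraicClosure_iff.2 (hF i)⟩
  have h3 : AlgebraicIndependent k t' :=
    AlgebraicIndependent.of_comp (E.val.restrictScalars k) ht
  rw [h2, add_zero] at h1
  rw [h1]
  exact h3.cardinalMk_le_trdeg

/-- A large algebraically closed field. -/
theorem exists_field (k : Type u) [Field k] (ι : Type u) :
    ∃ (K : Type u) (_ : Field K) (_ : IsAlgClosed K) (_ : Algebra k K) (t : ι → K),
      AlgebraicIndependent k t := by
  let M := MvPolynomial ι k
  let Q := FractionRing M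
  let K := AlgebraicClosure Q
  let h : M →ₐ[k] K := (IsScalarTower.toAlgHom k Q K).comp (IsScalarTower.toAlgHom k M Q)
  have h2 : Function.Injective h :=
    (algebraMap Q K).injective.comp (IsFractionRing.injective M Q)
  exact ⟨K, inferInstance, inferInstance, inferInstance, h ∘ MvPolynomial.X,
    (MvPolynomial.algebraicIndependent_X ι k).map' h2⟩

end Alg

variable {k : Type u} [Field k] {X : Scheme.{u}} {f : X ⟶ Spec (CommRingCat.of k)} {d : ℕ}
  {H : Over (Spec (CommRingCat.of k))} {Z : HilbD.Obj f d H} {A : Type u} [CommRing A] [Algebra k A]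
  (j : Spec (CommRingCat.of A) ⟶ X)
  (hj : j ≫ f = Spec.map (CommRingCat.ofHom (algebraMap k A))) [IsOpenImmersion j] [IsSeparated f]
  (hZ : HilbD.IsUniversal f d H Z)

include hj hZ in
/-- **Lower bound**: `d` independent generic points. -/
theorem exists_le_trdegAt [IsDomain A] [Algebra.FiniteType k A] {r : ℕ} (hA : ringKrullDim A = r)
    (hr : 1 ≤ r) : ∃ x : H.left, ((d * r : ℕ) : Cardinal.{u}) ≤ trdegAt H.hom x := by
  obtain ⟨s, g, hg, hi⟩ := exists_integral_inj_algHom_of_fg k A
  obtain rfl : s = r := by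
    let : Algebra (MvPolynomial (Fin s) k) A := g.toRingHom.toAlgebra
    have h1 : FaithfulSMul (MvPolynomial (Fin s) k) A :=
      (faithfulSMul_iff_algebraMap_injective _ A).2 hg
    have h3 : Algebra.IsIntegral (MvPolynomial (Fin s) k) A := ⟨hi⟩
    have h4 := Groth.Agent.CalgC.DimFT.ringKrullDim_eq_of_isIntegral (R := MvPolynomial (Fin s) k) (S := A)
    rw [hA, Groth.Agent.CalgC.DimFT.ringKrullDim_mvPolynomial_fin] at h4
    exact_mod_cast h4.symm
  obtain ⟨K, _, _, _, t, ht⟩ := exists_field k (ULift.{u} (Fin d × Fin s))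
  have hex : ∀ i : Fin d, ∃ φ : A →ₐ[k] K, ∀ b, φ (g (MvPolynomial.X b)) = t ⟨(i, b)⟩ := by
    intro i
    refine exists_lift g hg hi (fun b => t ⟨(i, b)⟩) (ht.comp (fun b => ⟨(i, b)⟩) fun b c h => ?_)
    have := congrArg (fun q : ULift.{u} (Fin d × Fin s) => q.down.2) h
    exact this
  choose φ hφ using hex
  have hne : ∀ i j, i ≠ j → φ i ≠ φ j := by
    intro i j hij h
    let b : Fin s := ⟨0, hr⟩
    have h1 : t ⟨(i, b)⟩ = t ⟨(j, b)⟩ := by rw [← hφ, ← hφ, h]
    have h2 := ht.injective h1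
    exact hij (congrArg (fun q : ULift.{u} (Fin d × Fin s) => q.down.1) h2)
  have hJ := isFinLocFree φ hne
  obtain ⟨F, hF, htr⟩ := exists_defOver j hj hZ (Jpt φ) hJ
  refine ⟨im j hj hZ (Jpt φ) hJ, ?_⟩
  rw [htr]
  have h1 := le_trdeg F t ht fun i => by
    rw [show t i = φ i.down.1 (g (MvPolynomial.X i.down.2)) from (hφ _ _).symm]
    exact isAlgebraic_of_defOver φ hne F hF _ _
  refine le_trans (le_of_eq ?_) h1
  simp

end Groth.Agent.HilbD.K759.LowPt
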