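import Groth.Agent.HilbD.K221.FldPt
import Groth.Agent.Fga.IntegralSub
import Groth.Agent.CycA.IntLocal
import Groth.Agent.S1597
import Groth.Agent.S0558
import Groth.Agent.S2533

/-!
# Regularity from the tangent space and a point of large transcendence degree

`g : Y ⟶ Spec k` locally of finite type over a field, `Y` connected. If the embedding dimension at
every closed point is at most `N` and some point has transcendence degree at least `N`, then all
local rings of `Y` are regular and `dim Y = N`.
-/

set_option autoImplicit false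
set_option backward.isDefEq.respectTransparency false

universe u

open CategoryTheory CategoryTheory.Limits AlgebraicGeometry TopologicalSpace Order

namespace Groth.Agent.HilbD.K759.RegDim

open Groth.Agent.Sga4h.GeoDim Groth.Agent.CycB.RelDim K221.FldPt IsLocalRing

variable {k : Type u} [Field k] {Y : Scheme.{u}} (g : Y ⟶ Spec (CommRingCat.of k)) [LocallyOfFiniteType g]

/-- A strict generization of a closed point of a closed subscheme. -/
theorem coheight_le_of_isClosedImmersion {W X : Scheme.{u}} (i : W ⟶ X) [IsClosedImmersion i] (w : W) :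
    coheight w ≤ coheight (i w) := by
  have hmono : ∀ (z z' : W), z ≤ z' ↔ i z ≤ i z' := by
    intro z z'
    exact (i.isEmbedding.isInducing.specializes_iff).symm
  refine coheight_le_coheight_apply_of_strictMono (fun z : W => i z) ?_ w
  intro z z' hz
  refine lt_of_le_not_ge ((hmono z z').mp hz.le) fun h => ?_
  exact hz.not_ge ((hmono z' z).mpr h)

/-- The local dimension at a closed point is at least the transcendence degree of any generization. -/
theorem le_ringKrullDim_stalk {x h : Y} (hx : x ⤳ h) (hc : IsClosed ({h} : Set Y)) {N : ℕ}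
    (hN : (N : Cardinal.{u}) ≤ trdegAt g x) : (N : WithBot ℕ∞) ≤ ringKrullDim (Y.presheaf.stalk h) := by
  obtain ⟨W, i, _, _, hi, hr⟩ := Groth.Agent.Fga.IntegralSub.exists_integral_closed x
  obtain ⟨w, rfl⟩ : h ∈ Set.range i := by
    rw [hr]; exact specializes_iff_mem_closure.mp hx
  obtain ⟨a, t, n, ha, ht, ht', hn, hat⟩ := Groth.Agent.CycA.IntLocal.exists_dims (i ≫ g) w
  have hcw : IsClosed ({w} : Set W) := by
    have : ({w} : Set W) = i ⁻¹' {i w} := by
      ext v
      simp only [Set.mem_singleton_iff, Set.mem_preimage]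
      exact ⟨fun h => by rw [h], fun h => i.isClosedEmbedding.injective h⟩
    rw [this]
    exact hc.preimage i.continuous
  have h0 : t = 0 := by
    rw [hcw.closure_eq] at ht'
    have h1 : topologicalKrullDim (({w} : Set W)) ≤ 0 :=
      topologicalKrullDim_zero_of_discreteTopology (({w} : Set W))
    rw [ht'] at h1
    have h2 : t ≤ 0 := by exact_mod_cast h1
    omega
  subst h0
  obtain ⟨n', h1, h2⟩ := exists_dim_closure g x
  have h3 : topologicalKrullDim W = n' := by
    rw [← h2, ← hr]
    exact IsHomeomorph.topologicalKrullDim_eq _ i.isEmbedding.toHomeomorph.isHomeomorph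
  have h4 : n = n' := by
    rw [hn] at h3
    exact_mod_cast h3
  have h5 : N ≤ n' := by
    rw [h1] at hN
    exact_mod_cast hN
  rw [ringKrullDim_stalk_eq_coheight] at ha ⊢
  have h6 := coheight_le_of_isClosedImmersion i w
  have h7 : (a : ℕ∞) ≤ coheight (i w) := by
    have h8 : coheight w = (a : ℕ∞) := by exact_mod_cast ha
    rw [← h8]; exact h6
  have h9 : N ≤ a := by omega
  calc (N : WithBot ℕ∞) ≤ ((a : ℕ∞) : WithBot ℕ∞) := by exact_mod_cast h9
    _ ≤ _ := by exact_mod_cast h7

/-- **Main criterion.** -/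
theorem regular_of_embdim_le [ConnectedSpace Y] (N : ℕ)
    (hemb : ∀ y : Y, IsClosed ({y} : Set Y) →
      Module.finrank (ResidueField (Y.presheaf.stalk y)) (CotangentSpace (Y.presheaf.stalk y)) ≤ N)
    (x₀ : Y) (hx₀ : (N : Cardinal.{u}) ≤ trdegAt g x₀) :
    (∀ y : Y, IsRegularLocalRing (Y.presheaf.stalk y)) ∧ topologicalKrullDim Y = N := by
  have hln : IsLocallyNoetherian Y := LocallyOfFiniteType.isLocallyNoetherian g
  have hjac : JacobsonSpace Y := LocallyOfFiniteType.jacobsonSpace g
  have hle : ∀ y : Y, IsClosed ({y} : Set Y) → ringKrullDim (Y.presheaf.stalk y) ≤ N := by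
    intro y hy
    refine (ringKrullDim_le_spanFinrank_maximalIdeal _).trans ?_
    rw [spanFinrank_maximalIdeal_eq_finrank_cotangentSpace]
    exact_mod_cast hemb y hy
  have hbd : ∀ {x h : Y}, x ⤳ h → IsClosed ({h} : Set Y) → trdegAt g x ≤ (N : Cardinal.{u}) := by
    intro x h hx hc
    obtain ⟨m, hm⟩ := exists_nat_trdegAt g x
    have h1 := (le_ringKrullDim_stalk g hx hc (N := m) hm.ge).trans (hle h hc)
    rw [hm]
    exact_mod_cast h1
  have hreg : ∀ h : Y, x₀ ⤳ h → IsClosed ({h} : Set Y) → IsRegularLocalRing (Y.presheaf.stalk h) := by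
    intro h hx hc
    apply IsRegularLocalRing.of_spanFinrank_maximalIdeal_le
    rw [spanFinrank_maximalIdeal_eq_finrank_cotangentSpace]
    have h1 : ((Module.finrank (ResidueField (Y.presheaf.stalk h))
      (CotangentSpace (Y.presheaf.stalk h)) : ℕ) : WithBot ℕ∞) ≤ N := by exact_mod_cast hemb h hc
    exact h1.trans (le_ringKrullDim_stalk g hx hc hx₀)
  have hex : ∀ y : Y, ∃ h : Y, y ⤳ h ∧ IsClosed ({h} : Set Y) := by
    intro y
    obtain ⟨h, h1, h2⟩ := nonempty_inter_closedPoints (Z := closure {y}) ⟨y, subset_closure rfl⟩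
      isClosed_closure.isLocallyClosed
    exact ⟨h, specializes_iff_mem_closure.mpr h1, h2⟩
  have hgen : StableUnderGeneralization (closure {x₀} : Set Y) := by
    intro y y' hyy' hy
    obtain ⟨h, hyh, hc⟩ := hex y
    have hx0h : x₀ ⤳ h := (specializes_iff_mem_closure.mpr hy).trans hyh
    have hr := hreg h hx0h hc
    have hd : IsDomain (Y.presheaf.stalk h) := Groth.Agent.S0558.result _
    obtain ⟨z, hz⟩ : ∃ z : Y, ∀ y : Y, y ⤳ h → z ⤳ y := by
      let ν : Spec (Y.presheaf.stalk h) := ⟨⊥, Ideal.isPrime_bot⟩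
      refine ⟨Y.fromSpecStalk h ν, fun y hy ↦ ?_⟩
      obtain ⟨y', rfl⟩ : y ∈ Set.range (Y.fromSpecStalk h) := by
        rw [Scheme.range_fromSpecStalk]; exact hy
      have h1 : ν ⤳ y' := (PrimeSpectrum.le_iff_specializes _ _).mp bot_le
      exact h1.map (Y.fromSpecStalk h).continuous
    have hzx : z ⤳ x₀ := hz _ hx0h
    have hzh : z ⤳ h := hzx.trans hx0h
    have hzx' : z = x₀ := by
      by_contra hne
      have h1 := trdegAt_lt_of_specializes g hzx hne (Subsingleton.elim _ _)
      exact absurd ((hbd hzh hc).trans hx₀) (not_le_of_gt h1)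
    rw [← specializes_iff_mem_closure, ← hzx']
    exact hz _ (hyy'.trans hyh)
  have hopen : IsOpen (closure {x₀} : Set Y) := Groth.Agent.S2533.result _ isClosed_closure hgen
  have huniv : (closure {x₀} : Set Y) = Set.univ :=
    IsClopen.eq_univ ⟨isClosed_closure, hopen⟩ ⟨x₀, subset_closure rfl⟩
  have hall : ∀ y : Y, x₀ ⤳ y := fun y => specializes_iff_mem_closure.mpr (huniv ▸ trivial)
  refine ⟨fun y => ?_, le_antisymm ?_ ?_⟩
  · obtain ⟨h, hyh, hc⟩ := hex y
    exact Groth.Agent.S1597.isRegularLocalRing_of_specializes hyh (hreg h (hall h) hc)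
  · refine topologicalKrullDim_le g fun x => ?_
    obtain ⟨h, hxh, hc⟩ := hex x
    exact hbd hxh hc
  · exact le_topologicalKrullDim g hx₀

end Groth.Agent.HilbD.K759.RegDim
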