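import Groth.Agent.HilbD.K759.TanGeo
import Groth.Agent.HilbD.K759.LowPt
import Groth.Agent.HilbD.K759.RegDim
import Groth.Agent.S2280

/-!
# Fogarty's theorem

The Hilbert scheme of `n` points of a connected regular surface over an algebraically closed field is
regular of dimension `2n` (given that it is connected).
-/

set_option autoImplicit false
set_option backward.isDefEq.respectTransparency false

universe u

open CategoryTheory CategoryTheory.Limits AlgebraicGeometry TopologicalSpace Order

namespace Groth.Agent.HilbD.K759.Fogarty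

open Groth.Agent.Sga4h.GeoDim Groth.Agent.CycB.RelDim K221.FldPt IsLocalRing

variable {k : Type u} [Field k]

/-- Local rings of an integral scheme at closed points. -/
theorem ringKrullDim_stalk_of_isClosed {X : Scheme.{u}} (f : X ⟶ Spec (CommRingCat.of k))
    [LocallyOfFiniteType f] [IsIntegral X] {r : ℕ} (hdim : topologicalKrullDim X = r) (x : X)
    (hx : IsClosed ({x} : Set X)) : ringKrullDim (X.presheaf.stalk x) = r := by
  obtain ⟨a, t, n, ha, ht, ht', hn, hat⟩ := Groth.Agent.CycA.IntLocal.exists_dims f x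
  have h0 : t = 0 := by
    rw [hx.closure_eq] at ht'
    have h1 : topologicalKrullDim (({x} : Set X)) ≤ 0 :=
      topologicalKrullDim_zero_of_discreteTopology (({x} : Set X))
    rw [ht'] at h1
    have h2 : t ≤ 0 := by exact_mod_cast h1
    omega
  rw [hdim] at hn
  have h3 : r = n := by exact_mod_cast hn
  rw [ha]
  have : a = r := by omega
  rw [this]

/-- An affine chart of a positive-dimensional integral scheme. -/
theorem exists_chart {X : Scheme.{u}} (f : X ⟶ Spec (CommRingCat.of k))
    [LocallyOfFiniteType f] [IsIntegral X] {r : ℕ} (hdim : topologicalKrullDim X = r) :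
    ∃ (A : Type u) (_ : CommRing A) (_ : IsDomain A) (_ : Algebra k A) (_ : Algebra.FiniteType k A)
      (j : Spec (CommRingCat.of A) ⟶ X) (_ : IsOpenImmersion j),
      j ≫ f = Spec.map (CommRingCat.ofHom (algebraMap k A)) ∧ ringKrullDim A = r := by
  obtain ⟨x⟩ : Nonempty X := inferInstance
  obtain ⟨U, hU, hxU, -⟩ := exists_isAffineOpen_mem_and_subset (X := X) (x := x) (U := ⊤) trivial
  obtain ⟨ψ, hψ⟩ := Spec.map_surjective (hU.fromSpec ≫ f)
  have hne : Nonempty U := ⟨⟨x, hxU⟩⟩
  let A : Type u := Γ(X, U)
  have hdom : IsDomain A := inferInstanceAs (IsDomain Γ(X, U))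
  let : Algebra k A := ψ.hom.toAlgebra
  let j : Spec (CommRingCat.of A) ⟶ X := hU.fromSpec
  have hj : j ≫ f = Spec.map (CommRingCat.ofHom (algebraMap k A)) := hψ.symm
  have hft : Algebra.FiniteType k A := by
    have h1 : LocallyOfFiniteType (Spec.map (CommRingCat.ofHom (algebraMap k A))) := by
      rw [← hj]; infer_instance
    exact (HasRingHomProperty.Spec_iff (P := @LocallyOfFiniteType)).1 h1
  have hjac : JacobsonSpace X := LocallyOfFiniteType.jacobsonSpace f
  refine ⟨A, inferInstance, hdom, inferInstance, hft, j, inferInstance, hj, ?_⟩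
  obtain ⟨n, hn⟩ := Ideal.exists_maximal A
  let q : PrimeSpectrum A := ⟨n, hn.isPrime⟩
  have hq : IsClosed ({q} : Set (PrimeSpectrum A)) :=
    (PrimeSpectrum.isClosed_singleton_iff_isMaximal q).2 hn
  have hcl : IsClosed ({j q} : Set X) := by
    apply isClosed_singleton_of_isLocallyClosed_singleton
    have h3 : IsLocallyClosed (j '' {q}) := hq.isLocallyClosed.image j.isOpenEmbedding.isInducing
      j.isOpenEmbedding.isOpen_range.isLocallyClosed
    rwa [Set.image_singleton] at h3
  have h1 := ringKrullDim_stalk_of_isClosed f hdim (j q) hcl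
  obtain ⟨E⟩ := TanGeo.exists_ringEquiv_localization hU q
  have h2 : ringKrullDim (X.presheaf.stalk (j q)) = ringKrullDim (Localization.AtPrime q.asIdeal) :=
    ringKrullDim_eq_of_ringEquiv E
  rw [← Groth.Agent.CalgC.DimFT.height_eq_ringKrullDim_of_isMaximal (k := k) A n, ← h1, h2,
    IsLocalization.AtPrime.ringKrullDim_eq_height q.asIdeal]

variable [IsAlgClosed k]

/-- **Fogarty's theorem** (local part). -/
theorem regular_dim (X : Over (Spec (CommRingCat.of k))) [IsSeparated X.hom] [LocallyOfFiniteType X.hom]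
    [ConnectedSpace X.left]
    (hFA : ∀ F : Set X.left, F.Finite → ∃ U : X.left.Opens, IsAffineOpen U ∧ F ⊆ U)
    (hreg : ∀ x : X.left, IsRegularLocalRing (X.left.presheaf.stalk x))
    (hdim : topologicalKrullDim X.left = 2) (n : ℕ)
    (H : Over (Spec (CommRingCat.of k))) (Z : HilbD.Obj X.hom n H) (hH : HilbD.IsUniversal X.hom n H Z)
    [LocallyOfFiniteType H.hom] [ConnectedSpace H.left] :
    (∀ h : H.left, IsRegularLocalRing (H.left.presheaf.stalk h)) ∧
      topologicalKrullDim H.left = (2 * n : ℕ) := by
  have hln : IsLocallyNoetherian X.left := LocallyOfFiniteType.isLocallyNoetherian X.hom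
  have hint : IsIntegral X.left := (Groth.Agent.S2280.result X.left).2.2
    ⟨inferInstance, fun x => have := hreg x; Groth.Agent.S0558.result _⟩
  have hdim' : topologicalKrullDim X.left = ((2 : ℕ) : WithBot ℕ∞) := hdim
  obtain ⟨A, _, _, _, _, j, _, hj, hA⟩ := exists_chart X.hom hdim'
  obtain ⟨x₀, hx₀⟩ := LowPt.exists_le_trdegAt j hj hH hA (by norm_num)
  rw [mul_comm n 2] at hx₀
  exact RegDim.regular_of_embdim_le H.hom (2 * n) (fun h hc =>
    TanGeo.finrank_cotangent_stalk_le hFA
      (fun x hx => ⟨hreg x, by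
        have := ringKrullDim_stalk_of_isClosed X.hom hdim' x hx
        exact this⟩) hH h hc) x₀ hx₀

end Groth.Agent.HilbD.K759.Fogarty
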