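import Mathlib.RingTheory.Smooth.Quotient
import Mathlib.RingTheory.DualNumber
import Mathlib.RingTheory.Ideal.Cotangent
import Mathlib.LinearAlgebra.TensorProduct.RightExactness
import Mathlib.RingTheory.LocalRing.ResidueField.Basic
import Mathlib.LinearAlgebra.Dual.Lemmas

/-!
# The tangent space of a Hilbert scheme, algebra

`O` a `k`-algebra with an augmentation `e : O →ₐ[k] k`, `B` a `k`-algebra and `J` an ideal of
`O ⊗[k] B` with `O`-flat quotient.  With `I = J.map (eB e)` the fibre ideal of `B`:

* `ptDer e`: the point derivations `O →ₗ[k] k` at `e`;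
* `phi`: the linear map `ptDer e →ₗ[k] (I →ₗ[B] B ⧸ I)`;
* `phi_injective`: it is injective if `J` separates `k[ε]`-points of `O`;
* `finrank_cotangentSpace_le`: hence `dim m/m² ≤ dim Hom_B(I, B/I)` for `O` local.
-/

namespace Groth.Agent.HilbD.K759.TanAlg

open TensorProduct IsLocalRing

universe u v w

variable {k : Type u} {O : Type v} {B : Type w} [Field k] [CommRing O] [Algebra k O] [CommRing B]
  [Algebra k B] (e : O →ₐ[k] k)

/-- The point derivations at the augmentation `e`. -/
def ptDer : Submodule k (O →ₗ[k] k) where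
  carrier := {D | ∀ a b, D (a * b) = e a * D b + e b * D a}
  add_mem' := by
    intro D D' h h' a b
    simp only [Set.mem_ofPred_eq, LinearMap.add_apply] at *
    rw [h, h']; ring
  zero_mem' := by intro a b; simp
  smul_mem' := by
    intro c D h a b
    simp only [Set.mem_ofPred_eq, LinearMap.smul_apply, smul_eq_mul] at *
    rw [h]; ring

variable {e}

lemma pd_mul (D : ptDer e) (a b : O) : D.1 (a * b) = e a * D.1 b + e b * D.1 a := D.2 a b

lemma pd_one (D : ptDer e) : D.1 1 = 0 := by
  have := pd_mul D 1 1
  simp only [mul_one, _root_.map_one, one_mul] at this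
  simpa using this

variable (e)

variable (B) in
/-- The fibre map `O ⊗ B → B`. -/
noncomputable def eB : O ⊗[k] B →ₐ[k] B :=
  Algebra.TensorProduct.lift ((Algebra.ofId k B).comp e) (AlgHom.id k B) (fun _ _ => Commute.all _ _)

@[simp] lemma eB_tmul (a : O) (b : B) : eB B e (a ⊗ₜ b) = e a • b := by
  simp [eB, Algebra.smul_def, Algebra.ofId_apply]

lemma eB_surjective : Function.Surjective (eB B e) := fun b => ⟨1 ⊗ₜ b, by simp⟩

variable (B) in
/-- `D ⊗ B : O ⊗ B → B`. -/
noncomputable def dB (D : O →ₗ[k] k) : O ⊗[k] B →ₗ[k] B :=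
  (TensorProduct.lid k B).toLinearMap ∘ₗ D.rTensor B

@[simp] lemma dB_tmul (D : O →ₗ[k] k) (a : O) (b : B) : dB B D (a ⊗ₜ b) = D a • b := by
  simp [dB]

lemma dB_add (D D' : O →ₗ[k] k) : dB B (D + D') = dB B D + dB B D' := by
  ext; simp [add_smul]

lemma dB_smul (c : k) (D : O →ₗ[k] k) : dB B (c • D) = c • dB B D := by
  ext; simp [mul_smul]

variable {e}

lemma dB_mul (D : ptDer e) (x y : O ⊗[k] B) :
    dB B D.1 (x * y) = eB B e x * dB B D.1 y + eB B e y * dB B D.1 x := by
  induction x with
  | zero => simp
  | add x x' h h' => rw [add_mul, map_add, h, h', map_add, map_add]; ring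
  | tmul a b =>
    induction y with
    | zero => simp
    | add y y' h h' => rw [mul_add, map_add, h, h', map_add, map_add]; ring
    | tmul a' b' =>
      rw [Algebra.TensorProduct.tmul_mul_tmul, dB_tmul, dB_tmul, dB_tmul, eB_tmul, eB_tmul,
        pd_mul D]
      simp only [Algebra.smul_def, map_add, map_mul]
      ring

variable (J : Ideal (O ⊗[k] B))

lemma mem_map_eB {x : B} : x ∈ J.map (eB B e) ↔ ∃ y ∈ J, eB B e y = x :=
  Ideal.mem_map_iff_of_surjective _ (eB_surjective e)

/-- The kernel of the fibre map is generated by the augmentation ideal. -/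
lemma mem_smul_top_of_eB_eq_zero {y : O ⊗[k] B} (hy : eB B e y = 0) :
    y ∈ (RingHom.ker e) • (⊤ : Submodule O (O ⊗[k] B)) := by
  -- `y - 1 ⊗ eB y` is always in the submodule
  have key : ∀ z : O ⊗[k] B, z - 1 ⊗ₜ eB B e z ∈ (RingHom.ker e) • (⊤ : Submodule O (O ⊗[k] B)) := by
    intro z
    induction z with
    | zero => simp
    | add z z' h h' =>
      rw [map_add, TensorProduct.tmul_add]
      have := Submodule.add_mem _ h h'
      convert this using 1
      abel
    | tmul a b =>
      have : (a ⊗ₜ[k] b - 1 ⊗ₜ eB B e (a ⊗ₜ b) : O ⊗[k] B) = (a - algebraMap k O (e a)) • (1 ⊗ₜ b) := by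
        rw [eB_tmul, sub_smul, TensorProduct.smul_tmul', smul_eq_mul, mul_one, algebraMap_smul,
          TensorProduct.tmul_smul]
      rw [this]
      refine Submodule.smul_mem_smul ?_ trivial
      rw [RingHom.mem_ker]
      simp
  simpa [hy] using key y

lemma dB_mem_of_mem (D : ptDer e) [Module.Flat O ((O ⊗[k] B) ⧸ J)] {y : O ⊗[k] B} (hy : y ∈ J)
    (h0 : eB B e y = 0) : dB B D.1 y ∈ J.map (eB B e) := by
  -- `y` lies in `m J`
  have h1 := mem_smul_top_of_eB_eq_zero h0
  have h2 := LinearMap.ker_inf_smul_top_eq_smul_of_flat (RingHom.ker e)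
    ((Ideal.Quotient.mkₐ O J).toLinearMap) (Ideal.Quotient.mkₐ_surjective O J)
  have hk : LinearMap.ker ((Ideal.Quotient.mkₐ O J).toLinearMap) = J.restrictScalars O := by
    ext z
    simp [Ideal.Quotient.eq_zero_iff_mem]
  rw [hk] at h2
  have h3 : y ∈ (RingHom.ker e) • (J.restrictScalars O) := by
    rw [← h2]; exact ⟨hy, h1⟩
  refine Submodule.smul_induction_on h3 ?_ ?_
  · intro c hc x hx
    have : (c • x : O ⊗[k] B) = (c ⊗ₜ 1) * x := by
      rw [Algebra.smul_def]; rfl
    rw [this, dB_mul, eB_tmul, dB_tmul, (RingHom.mem_ker).1 hc]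
    rw [zero_smul, zero_mul, zero_add]
    exact Ideal.mul_mem_right _ _ (Ideal.mem_map_of_mem _ hx)
  · intro x y hx hy
    rw [map_add]; exact Ideal.add_mem _ hx hy

section phi

variable [hfl : Module.Flat O ((O ⊗[k] B) ⧸ J)]

/-- A lift of an element of the fibre ideal. -/
noncomputable def lft (x : J.map (eB B e)) : O ⊗[k] B := ((mem_map_eB J).1 x.2).choose

omit hfl in
lemma lft_mem (x : J.map (eB B e)) : lft J x ∈ J := ((mem_map_eB J).1 x.2).choose_spec.1

omit hfl in
lemma eB_lft (x : J.map (eB B e)) : eB B e (lft J x) = x := ((mem_map_eB J).1 x.2).choose_spec.2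

lemma mk_dB_eq (D : ptDer e) {y y' : O ⊗[k] B} (hy : y ∈ J) (hy' : y' ∈ J)
    (h : eB B e y = eB B e y') :
    Ideal.Quotient.mk (J.map (eB B e)) (dB B D.1 y) = Ideal.Quotient.mk _ (dB B D.1 y') := by
  rw [Ideal.Quotient.mk_eq_mk_iff_sub_mem, ← map_sub]
  exact dB_mem_of_mem J D (J.sub_mem hy hy') (by rw [map_sub, h, sub_self])

/-- The homomorphism attached to a point derivation. -/
noncomputable def phiOne (D : ptDer e) : J.map (eB B e) →ₗ[B] B ⧸ (J.map (eB B e)) where
  toFun x := Ideal.Quotient.mk _ (dB B D.1 (lft J x))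
  map_add' x y := by
    rw [← map_add, ← map_add]
    exact mk_dB_eq J D (lft_mem J _) (J.add_mem (lft_mem J _) (lft_mem J _))
      (by rw [map_add, eB_lft, eB_lft, eB_lft]; rfl)
  map_smul' b x := by
    have h1 : Ideal.Quotient.mk (J.map (eB B e)) (dB B D.1 (lft J (b • x))) =
        Ideal.Quotient.mk _ (dB B D.1 ((1 ⊗ₜ b) * lft J x)) :=
      mk_dB_eq J D (lft_mem J _) (J.mul_mem_left _ (lft_mem J _))
        (by rw [map_mul, eB_lft, eB_lft, eB_tmul, map_one, one_smul]; rfl)
    rw [h1, dB_mul, eB_tmul, dB_tmul, pd_one D, zero_smul, mul_zero, add_zero, map_one, one_smul,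
      RingHom.id_apply, map_mul, Algebra.smul_def]
    rfl

lemma phiOne_apply (D : ptDer e) (x : J.map (eB B e)) {y : O ⊗[k] B} (hy : y ∈ J)
    (h : eB B e y = x) : phiOne J D x = Ideal.Quotient.mk _ (dB B D.1 y) :=
  mk_dB_eq J D (lft_mem J _) hy (by rw [eB_lft, h])

/-- The `k`-linear map from point derivations to `Hom_B(I, B/I)`. -/
noncomputable def phi : ptDer e →ₗ[k] (J.map (eB B e) →ₗ[B] B ⧸ (J.map (eB B e))) where
  toFun D := phiOne J D
  map_add' D D' := by
    ext x
    rw [LinearMap.add_apply]
    show Ideal.Quotient.mk _ (dB B (D + D').1 (lft J x)) = _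
    rw [Submodule.coe_add, dB_add, LinearMap.add_apply, map_add]
    rfl
  map_smul' c D := by
    ext x
    rw [LinearMap.smul_apply]
    show Ideal.Quotient.mk _ (dB B (c • D).1 (lft J x)) = _
    rw [Submodule.coe_smul, dB_smul, LinearMap.smul_apply]
    rfl

/-- The `k[ε]`-point of `O` attached to a point derivation. -/
noncomputable def dual (D : ptDer e) : O →ₐ[k] DualNumber k where
  toFun a := TrivSqZeroExt.inl (e a) + TrivSqZeroExt.inr (D.1 a)
  map_one' := by rw [map_one, pd_one D]; simp
  map_mul' a b := by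
    ext
    · simp
    · simp [pd_mul D, mul_comm]
  map_zero' := by simp
  map_add' a b := by ext <;> simp
  commutes' c := by
    have : D.1 (algebraMap k O c) = 0 := by
      rw [Algebra.algebraMap_eq_smul_one, map_smul, pd_one D, smul_zero]
    rw [this, AlgHom.commutes, TrivSqZeroExt.inr_zero, add_zero]
    rfl

omit hfl in
lemma map_dual (D : ptDer e) (x : O ⊗[k] B) :
    Algebra.TensorProduct.map (dual D) (AlgHom.id k B) x =
      1 ⊗ₜ eB B e x + (TrivSqZeroExt.inr 1 : DualNumber k) ⊗ₜ dB B D.1 x := by
  induction x with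
  | zero => simp
  | add x y h h' =>
    rw [map_add, h, h', map_add, map_add, TensorProduct.tmul_add, TensorProduct.tmul_add]
    abel
  | tmul a b =>
    rw [Algebra.TensorProduct.map_tmul, eB_tmul, dB_tmul, ← TensorProduct.smul_tmul,
      ← TensorProduct.smul_tmul, ← TensorProduct.add_tmul]
    congr 1
    show TrivSqZeroExt.inl (e a) + TrivSqZeroExt.inr (D.1 a) = _
    ext <;> simp

lemma mapDual_eq_of_phi_eq_zero (D : ptDer e) (h : phi J D = 0) :
    J.map (Algebra.TensorProduct.map (dual D) (AlgHom.id k B)) =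
      J.map (Algebra.TensorProduct.map (dual (0 : ptDer e)) (AlgHom.id k B)) := by
  have hD : ∀ y ∈ J, dB B D.1 y ∈ J.map (eB B e) := by
    intro y hy
    have h1 : phi J D ⟨eB B e y, Ideal.mem_map_of_mem _ hy⟩ = 0 := by rw [h]; rfl
    have h2 : phi J D ⟨eB B e y, Ideal.mem_map_of_mem _ hy⟩ =
        Ideal.Quotient.mk _ (dB B D.1 y) := phiOne_apply J D _ hy rfl
    rw [h2, Ideal.Quotient.eq_zero_iff_mem] at h1
    exact h1
  have h0 : ∀ y : O ⊗[k] B, Algebra.TensorProduct.map (dual (0 : ptDer e)) (AlgHom.id k B) y =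
      1 ⊗ₜ eB B e y := by
    intro y
    rw [map_dual]
    have : dB B (0 : ptDer e).1 y = 0 := by
      show dB B (0 : O →ₗ[k] k) y = 0
      simp [dB]
    rw [this, TensorProduct.tmul_zero, add_zero]
  -- `ε ⊗ I` lies in each of the two ideals
  have hε : ∀ D' : ptDer e, ∀ x ∈ J.map (eB B e), ((TrivSqZeroExt.inr 1 : DualNumber k) ⊗ₜ[k] x) ∈
      J.map (Algebra.TensorProduct.map (dual D') (AlgHom.id k B)) := by
    intro D' x hx
    obtain ⟨y, hy, rfl⟩ := (mem_map_eB J).1 hx
    have h1 := Ideal.mul_mem_left (J.map (Algebra.TensorProduct.map (dual D') (AlgHom.id k B)))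
      ((TrivSqZeroExt.inr 1 : DualNumber k) ⊗ₜ[k] (1 : B)) (Ideal.mem_map_of_mem _ hy)
    rw [map_dual, mul_add, Algebra.TensorProduct.tmul_mul_tmul, Algebra.TensorProduct.tmul_mul_tmul,
      TrivSqZeroExt.inr_mul_inr, TensorProduct.zero_tmul, add_zero, mul_one, one_mul] at h1
    exact h1
  apply le_antisymm
  · rw [Ideal.map_le_iff_le_comap]
    intro y hy
    rw [Ideal.mem_comap, map_dual]
    refine Ideal.add_mem _ ?_ (hε _ _ (hD y hy))
    rw [← h0]
    exact Ideal.mem_map_of_mem _ hy
  · rw [Ideal.map_le_iff_le_comap]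
    intro y hy
    rw [Ideal.mem_comap, h0]
    have h1 : (1 ⊗ₜ eB B e y : DualNumber k ⊗[k] B) =
        Algebra.TensorProduct.map (dual D) (AlgHom.id k B) y -
          (TrivSqZeroExt.inr 1 : DualNumber k) ⊗ₜ dB B D.1 y := by
      rw [map_dual, add_sub_cancel_right]
    rw [h1]
    exact Ideal.sub_mem _ (Ideal.mem_map_of_mem _ hy) (hε _ _ (hD y hy))

theorem phi_injective
    (hinj : ∀ a b : O →ₐ[k] DualNumber k,
      J.map (Algebra.TensorProduct.map a (AlgHom.id k B)) =
        J.map (Algebra.TensorProduct.map b (AlgHom.id k B)) → a = b) :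
    Function.Injective (phi (e := e) J) := by
  rw [injective_iff_map_eq_zero]
  intro D hD
  have h1 := hinj _ _ (mapDual_eq_of_phi_eq_zero J D hD)
  ext a
  have h2 : dual D a = dual (0 : ptDer e) a := by rw [h1]
  have h3 := congrArg TrivSqZeroExt.snd h2
  have h4 : TrivSqZeroExt.snd (dual D a) = D.1 a := by
    show TrivSqZeroExt.snd (TrivSqZeroExt.inl (e a) + TrivSqZeroExt.inr (D.1 a)) = _
    simp
  have h5 : TrivSqZeroExt.snd (dual (0 : ptDer e) a) = (0 : ptDer e).1 a := by
    show TrivSqZeroExt.snd (TrivSqZeroExt.inl (e a) + TrivSqZeroExt.inr ((0 : ptDer e).1 a)) = _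
    simp
  rw [h4, h5] at h3
  exact h3

end phi

lemma finrank_le_of_semilinear {K : Type*} [Field K] {V W : Type*} [AddCommGroup V] [Module K V]
    [Module.Finite K V] [AddCommGroup W] [Module k W] [Module.Finite k W] (s : K →+* k) (t : k →+* K)
    (hst : ∀ c, s (t c) = c) (F : V → W) (hadd : ∀ v w, F (v + w) = F v + F w)
    (hsmul : ∀ (c : K) v, F (c • v) = s c • F v) (hinj : ∀ v, F v = 0 → v = 0) :
    Module.finrank K V ≤ Module.finrank k W := by
  have hli : LinearIndependent k (fun i => F (Module.finBasis K V i)) := by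
    rw [Fintype.linearIndependent_iff]
    intro g hg i
    have h2 : ∀ S : Finset (Fin (Module.finrank K V)),
        F (∑ i ∈ S, t (g i) • Module.finBasis K V i) = ∑ i ∈ S, g i • F (Module.finBasis K V i) := by
      intro S
      induction S using Finset.induction_on with
      | empty =>
        simp only [Finset.sum_empty]
        have := hsmul 0 0
        rwa [zero_smul, map_zero, zero_smul] at this
      | insert j S hj ih =>
        rw [Finset.sum_insert hj, Finset.sum_insert hj, hadd, hsmul, hst, ih]
    have h3 := hinj _ ((h2 Finset.univ).trans hg)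
    have h4 := (Fintype.linearIndependent_iff.1 (Module.finBasis K V).linearIndependent) _ h3 i
    have h5 := congrArg s h4
    rwa [hst, map_zero] at h5
  have := hli.fintype_card_le_finrank
  simpa using this

/-- The embedding of the dual of the cotangent space into the point derivations. -/
theorem finrank_cotangentSpace_le_ptDer [IsLocalRing O] [IsNoetherianRing O] (e : O →ₐ[k] k)
    [Module.Finite k (ptDer e)] :
    Module.finrank (ResidueField O) (CotangentSpace O) ≤ Module.finrank k (ptDer e) := by
  -- the residue field is `k`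
  have hker : RingHom.ker (e : O →+* k) = maximalIdeal O := by
    have : (RingHom.ker (e : O →+* k)).IsMaximal :=
      RingHom.ker_isMaximal_of_surjective _ (fun c => ⟨algebraMap k O c, by simp⟩)
    exact IsLocalRing.eq_maximalIdeal this
  have hloc : IsLocalHom (e : O →+* k) := by
    refine ⟨fun a ha => ?_⟩
    by_contra hn
    have : a ∈ maximalIdeal O := hn
    rw [← hker, RingHom.mem_ker] at this
    exact ha.ne_zero this
  let ebar : ResidueField O →+* k := ResidueField.lift (e : O →+* k)
  have hebar : ∀ a, ebar (residue O a) = e a := fun a => ResidueField.lift_residue_apply _ _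
  have hres : ∀ a, residue O a = algebraMap k (ResidueField O) (e a) := by
    intro a
    have h1 : residue O (a - algebraMap k O (e a)) = 0 := by
      rw [residue_eq_zero_iff, ← hker, RingHom.mem_ker]
      simp
    rw [map_sub, sub_eq_zero] at h1
    rw [h1]; rfl
  have hbar : ∀ c : ResidueField O, algebraMap k (ResidueField O) (ebar c) = c := by
    intro c
    obtain ⟨a, rfl⟩ := residue_surjective c
    rw [hebar, hres]
  have hbar' : ∀ c : k, ebar (algebraMap k (ResidueField O) c) = c := by
    intro c
    have := hebar (algebraMap k O c)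
    rw [AlgHom.commutes] at this
    exact this
  -- the maximal ideal element attached to `a`
  have hmem : ∀ a, a - algebraMap k O (e a) ∈ maximalIdeal O := by
    intro a; rw [← hker, RingHom.mem_ker]; simp
  -- the linear map
  let F : Module.Dual (ResidueField O) (CotangentSpace O) → ptDer e := fun l =>
    ⟨{ toFun := fun a => ebar (l ((maximalIdeal O).toCotangent ⟨_, hmem a⟩))
       map_add' := by
        intro a b
        rw [← map_add, ← map_add, ← map_add]
        congr 3
        ext
        simp only [map_add, Submodule.coe_add]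
        ring
       map_smul' := by
        intro c a
        have : (maximalIdeal O).toCotangent ⟨_, hmem (c • a)⟩ =
            (residue O (algebraMap k O c)) • (maximalIdeal O).toCotangent ⟨_, hmem a⟩ := by
          have h2 : (⟨_, hmem (c • a)⟩ : maximalIdeal O) =
              (algebraMap k O c) • (⟨_, hmem a⟩ : maximalIdeal O) := by
            ext
            simp only [map_smul, smul_eq_mul, Submodule.coe_smul, map_mul]
            rw [mul_sub, Algebra.smul_def]
          rw [h2, map_smul]
          rfl
        rw [this, map_smul, smul_eq_mul, map_mul, hebar, AlgHom.commutes]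
        rfl }, by
        intro a b
        show ebar _ = e a * ebar _ + e b * ebar _
        have h2 : (maximalIdeal O).toCotangent ⟨_, hmem (a * b)⟩ =
            (residue O a) • (maximalIdeal O).toCotangent ⟨_, hmem b⟩ +
              (residue O b) • (maximalIdeal O).toCotangent ⟨_, hmem a⟩ := by
          have h3 : ∀ (c : O) (m : maximalIdeal O), (residue O c) • (maximalIdeal O).toCotangent m =
              (maximalIdeal O).toCotangent (c • m) := by
            intro c m; rw [map_smul]; rfl
          rw [h3, h3, ← map_add, Ideal.toCotangent_eq]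
          simp only [Submodule.coe_add, Submodule.coe_smul, smul_eq_mul, map_mul]
          have h4 : a * b - algebraMap k O (e a) * algebraMap k O (e b) -
              (a * (b - algebraMap k O (e b)) + b * (a - algebraMap k O (e a))) =
              - ((a - algebraMap k O (e a)) * (b - algebraMap k O (e b))) := by ring
          rw [h4, pow_two]
          exact Ideal.neg_mem_iff _ |>.2 (Ideal.mul_mem_mul (hmem a) (hmem b))
        rw [h2, map_add, LinearMap.map_smul, LinearMap.map_smul, map_add, smul_eq_mul, smul_eq_mul,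
          map_mul, map_mul, hebar, hebar]⟩
  have hFadd : ∀ l l', F (l + l') = F l + F l' := by
    intro l l'; ext a
    show ebar _ = ebar _ + ebar _
    rw [← map_add]; rfl
  have hFsmul : ∀ (c : ResidueField O) l, F (c • l) = (ebar c) • F l := by
    intro c l; ext a
    show ebar _ = ebar c * ebar _
    rw [← map_mul]; rfl
  have hFinj : ∀ l, F l = 0 → l = 0 := by
    intro l hl
    ext m
    obtain ⟨m, rfl⟩ := (maximalIdeal O).toCotangent_surjective m
    have h1 : (F l).1 m.1 = 0 := by rw [hl]; rfl
    have h2 : (⟨_, hmem m.1⟩ : maximalIdeal O) = m := by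
      ext
      have : e m.1 = 0 := by
        have h5 : m.1 ∈ RingHom.ker (e : O →+* k) := by rw [hker]; exact m.2
        exact h5
      simp [this]
    have h3 : ebar (l ((maximalIdeal O).toCotangent ⟨_, hmem m.1⟩)) = 0 := h1
    rw [h2] at h3
    have h4 := ebar.injective (h3.trans (map_zero ebar).symm)
    rw [LinearMap.zero_apply]
    exact h4
  -- compare dimensions
  have h9 := finrank_le_of_semilinear ebar (algebraMap k (ResidueField O)) hbar' F hFadd hFsmul hFinj
  rwa [Subspace.dual_finrank_eq] at h9

/-- **Upper bound for the tangent space.** -/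
theorem finrank_cotangentSpace_le [IsLocalRing O] [IsNoetherianRing O] (e : O →ₐ[k] k)
    (J : Ideal (O ⊗[k] B)) [Module.Flat O ((O ⊗[k] B) ⧸ J)]
    [Module.Finite k (J.map (eB B e) →ₗ[B] B ⧸ (J.map (eB B e)))]
    (hinj : ∀ a b : O →ₐ[k] DualNumber k,
      J.map (Algebra.TensorProduct.map a (AlgHom.id k B)) =
        J.map (Algebra.TensorProduct.map b (AlgHom.id k B)) → a = b) :
    Module.finrank (ResidueField O) (CotangentSpace O) ≤
      Module.finrank k (J.map (eB B e) →ₗ[B] B ⧸ (J.map (eB B e))) := by
  have hi := phi_injective J hinj (e := e)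
  have : Module.Finite k (ptDer e) := Module.Finite.of_injective (phi (e := e) J) hi
  exact (finrank_cotangentSpace_le_ptDer e).trans (LinearMap.finrank_le_finrank_of_injective hi)

end Groth.Agent.HilbD.K759.TanAlg
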