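import Groth.Agent.HilbD.K221.FldPt
import Groth.Agent.HilbD.K759.TanAlg
import Groth.Agent.HilbD.K759.ExtGlob
import Mathlib.AlgebraicGeometry.AlgClosed.Basic

/-!
# The tangent space of the Hilbert scheme of points of a surface

`k` a field, `(H, Z)` universal for `Hilb^d_{X/k}`, `j : Spec A ⟶ X` open. If `O` is a Noetherian local
`k`-algebra with residue field `k` and a monomorphism `Spec O ⟶ H` whose image lies in the locus of
subschemes of `Spec A`, and `A` is regular of dimension two with residue fields `k` at its maximal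
ideals, then `dim m_O/m_O² ≤ 2d`.
-/

set_option autoImplicit false
set_option backward.isDefEq.respectTransparency false

universe u

open CategoryTheory CategoryTheory.Limits AlgebraicGeometry TensorProduct

namespace Groth.Agent.HilbD.K759.TanGeo

open Groth.Agent.Picfga.HilbPull Groth.Agent.Picfga.HilbTriple Groth.Agent.Picfga.SecGraph
  Groth.Agent.Picfga.HilbRep Groth.Agent.Sga4h.GeoDim K221.AffPt K221.FldPt
  Groth.Agent.HilbD.K759.TanAlg IsLocalRing

variable {k : Type u} [Field k] {X : Scheme.{u}} {f : X ⟶ Spec (CommRingCat.of k)} {d : ℕ}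
  {H : Over (Spec (CommRingCat.of k))} {Z : HilbD.Obj f d H}

section Alg

variable {A : Type u} [CommRing A] [Algebra k A]

lemma eB_eq {O : Type u} [CommRing O] [Algebra k O] (e : O →ₐ[k] k) :
    (eB A e : O ⊗[k] A →+* A) =
      ((Algebra.TensorProduct.lid k A : k ⊗[k] A ≃ₐ[k] A) : k ⊗[k] A →+* A).comp (bm A e) := by
  have h : eB A e = ((Algebra.TensorProduct.lid k A : k ⊗[k] A ≃ₐ[k] A) : k ⊗[k] A →ₐ[k] A).comp
      (Algebra.TensorProduct.map e (AlgHom.id k A)) := by
    ext <;> simp [eB, Algebra.algebraMap_eq_smul_one]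
  exact congrArg AlgHom.toRingHom h

/-- The fibre at the augmentation has colength `d`. -/
theorem fibre {O : Type u} [CommRing O] [Algebra k O] (e : O →ₐ[k] k)
    (J : Ideal (O ⊗[k] A)) (hJ : Mor2.IsFinLocFreeOfDeg d (zpi (J.map (bm A e)))) :
    Module.Finite k (A ⧸ J.map (eB A e)) ∧ Module.finrank k (A ⧸ J.map (eB A e)) = d := by
  have h1 := (isFinLocFreeOfDeg_zpi_iff _).1 hJ
  let l : k ⊗[k] A ≃ₐ[k] A := Algebra.TensorProduct.lid k A
  have h2 : J.map (eB A e) = (J.map (bm A e)).map (l : k ⊗[k] A →+* A) := by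
    have h3 : J.map (eB A e) = J.map (eB A e : O ⊗[k] A →+* A) := rfl
    rw [h3, eB_eq, ← Ideal.map_map]
  let q : (k ⊗[k] A ⧸ J.map (bm A e)) ≃ₐ[k] A ⧸ J.map (eB A e) :=
    Ideal.quotientEquivAlg _ _ l h2
  have := h1.1
  exact ⟨Module.Finite.equiv q.toLinearEquiv, by rw [← q.toLinearEquiv.finrank_eq, h1.2]⟩

end Alg

variable {A : Type u} [CommRing A] [Algebra k A] (j : Spec (CommRingCat.of A) ⟶ X)
  (hj : j ≫ f = Spec.map (CommRingCat.ofHom (algebraMap k A))) [IsOpenImmersion j] [IsSeparated f]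
  (hZ : HilbD.IsUniversal f d H Z)

include hj hZ in
/-- **The tangent space at a `k`-point.** -/
theorem finrank_le_of_mono [IsNoetherianRing A] {O : Type u} [CommRing O] [IsLocalRing O] [IsNoetherianRing O]
    [Algebra k O] (y : T k O ⟶ H) [Mono y.left] (hy : ∀ p, y.left p ∈ gd j Z) (e : O →ₐ[k] k)
    (hk : ∀ (n : Ideal A), n.IsMaximal → ∀ a : A, ∃ c : k, a - algebraMap k A c ∈ n)
    (hreg : ∀ (n : Ideal A) [n.IsMaximal],
      IsRegularLocalRing (Localization.AtPrime n) ∧ ringKrullDim (Localization.AtPrime n) = 2) :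
    Module.finrank (ResidueField O) (CotangentSpace O) ≤ 2 * d := by
  obtain ⟨J, hJ, rfl⟩ := exists_eq_pt j hj hZ y fun z => (mem_gd_iff j y _).1 (hy _) z rfl
  have hJe := isFinLocFreeOfDeg_map f j hj e J hJ
  obtain ⟨h1, h2⟩ := fibre e J hJe
  have hfl : Module.Flat O ((O ⊗[k] A) ⧸ J) := by
    have h3 : Flat (zpi J) := hJ.1.2.1
    rw [Flat.SpecMap_iff] at h3
    exact RingHom.flat_algebraMap_iff.1 h3
  obtain ⟨h4, h5⟩ := ExtGlob.finrank_hom_le (k := k) (J.map (eB A e)) (fun n hn _ => hk n hn)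
    (fun n _ _ => hreg n)
  rw [h2] at h5
  refine (finrank_cotangentSpace_le e J fun a b hab => ?_).trans h5
  have ha := isFinLocFreeOfDeg_map f j hj a J hJ
  have hb := isFinLocFreeOfDeg_map f j hj b J hJ
  have hab' : J.map (bm A a) = J.map (bm A b) := hab
  have h6 : tm k O (DualNumber k) a ≫ pt j hj hZ J hJ = tm k O (DualNumber k) b ≫ pt j hj hZ J hJ := by
    rw [tm_pt j hj hZ a J hJ ha, tm_pt j hj hZ b J hJ hb]
    congr 1
  have h7 := congrArg Over.Hom.left h6
  rw [Over.comp_left, Over.comp_left, cancel_mono] at h7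
  have h8 := Spec.map_injective h7
  ext x
  · exact congrArg TrivSqZeroExt.fst (congrArg (fun q => q.hom x) h8)
  · exact congrArg TrivSqZeroExt.snd (congrArg (fun q => q.hom x) h8)

end Groth.Agent.HilbD.K759.TanGeo

namespace Groth.Agent.HilbD.K759.TanGeo

open Groth.Agent.Picfga.HilbPull Groth.Agent.Picfga.HilbTriple Groth.Agent.Picfga.SecGraph
  Groth.Agent.Picfga.HilbRep Groth.Agent.Sga4h.GeoDim K221.AffPt K221.FldPt
  Groth.Agent.HilbD.K759.TanAlg IsLocalRing

/-- The stalk at a point of an affine open is the localization. -/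
lemma exists_ringEquiv_localization {X : Scheme.{u}} {U : X.Opens} (hU : IsAffineOpen U)
    (n : PrimeSpectrum Γ(X, U)) :
    Nonempty (X.presheaf.stalk (hU.fromSpec n) ≃+* Localization.AtPrime n.asIdeal) := by
  have h : hU.fromSpec n ∈ U := by
    have h1 : hU.fromSpec n ∈ Set.range hU.fromSpec := ⟨n, rfl⟩
    rw [hU.range_fromSpec] at h1
    exact h1
  let : Algebra Γ(X, U) (X.presheaf.stalk (hU.fromSpec n)) :=
    TopCat.Presheaf.algebra_section_stalk X.presheaf ⟨_, h⟩
  have := hU.isLocalization_stalk' n h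
  exact ⟨(IsLocalization.algEquiv n.asIdeal.primeCompl (X.presheaf.stalk (hU.fromSpec n))
    (Localization.AtPrime n.asIdeal)).toRingEquiv⟩

variable {k : Type u} [Field k] [IsAlgClosed k] {X : Scheme.{u}} {f : X ⟶ Spec (CommRingCat.of k)} {d : ℕ}
  {H : Over (Spec (CommRingCat.of k))} {Z : HilbD.Obj f d H}

/-- The augmentation of the local ring at a closed point. -/
theorem exists_augmentation (p : H.left ⟶ Spec (CommRingCat.of k)) [LocallyOfFiniteType p]
    (h : H.left) (hc : IsClosed ({h} : Set H.left)) (φ : CommRingCat.of k ⟶ H.left.presheaf.stalk h)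
    (hφ : Spec.map φ = H.left.fromSpecStalk h ≫ p) :
    ∃ e : H.left.presheaf.stalk h ⟶ CommRingCat.of k, φ ≫ e = 𝟙 _ := by
  refine ⟨H.left.residue h ≫ (residueFieldIsoBase p h hc).hom, ?_⟩
  apply Spec.map_injective
  rw [Spec.map_comp, Spec.map_comp, hφ, Category.assoc, Spec.map_id]
  have h1 := pointOfClosedPoint_comp p h hc
  rw [pointOfClosedPoint, Category.assoc] at h1
  exact h1

/-- **The tangent space of the Hilbert scheme of points of a surface at closed points.** -/
theorem finrank_cotangent_stalk_le [IsSeparated f] [LocallyOfFiniteType f]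
    (hFA : ∀ F : Set X, F.Finite → ∃ U : X.Opens, IsAffineOpen U ∧ F ⊆ U)
    (hreg : ∀ x : X, IsClosed ({x} : Set X) →
      IsRegularLocalRing (X.presheaf.stalk x) ∧ ringKrullDim (X.presheaf.stalk x) = 2)
    (hZ : HilbD.IsUniversal f d H Z) [LocallyOfFiniteType H.hom] (h : H.left)
    (hc : IsClosed ({h} : Set H.left)) :
    Module.finrank (ResidueField (H.left.presheaf.stalk h))
      (CotangentSpace (H.left.presheaf.stalk h)) ≤ 2 * d := by
  -- the affine open
  obtain ⟨hfin, -⟩ := Groth.Agent.Picfga.FibreCard.ncard_preimage_le (sm Z) Z.2 h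
  obtain ⟨U, hU, hUF⟩ := hFA _ (hfin.image (pr Z))
  have hgood : h ∈ good U Z := by
    rw [mem_good]
    intro z hz
    exact hUF ⟨z, hz, rfl⟩
  -- the algebra
  obtain ⟨ψ, hψ⟩ := Spec.map_surjective (hU.fromSpec ≫ f)
  let A : Type u := Γ(X, U)
  let : Algebra k A := ψ.hom.toAlgebra
  let j : Spec (CommRingCat.of A) ⟶ X := hU.fromSpec
  have hj : j ≫ f = Spec.map (CommRingCat.ofHom (algebraMap k A)) := hψ.symm
  have hjr : j.opensRange = U := hU.opensRange_fromSpec
  have hft : Algebra.FiniteType k A := by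
    have h1 : LocallyOfFiniteType (Spec.map (CommRingCat.ofHom (algebraMap k A))) := by
      rw [← hj]; infer_instance
    have h2 := (HasRingHomProperty.Spec_iff (P := @LocallyOfFiniteType)).1 h1
    exact h2
  have hnoeth : IsNoetherianRing A := Algebra.FiniteType.isNoetherianRing k A
  have hjac : JacobsonSpace X := LocallyOfFiniteType.jacobsonSpace f
  -- the local ring
  obtain ⟨φ, hφ⟩ := Spec.map_surjective (H.left.fromSpecStalk h ≫ H.hom)
  obtain ⟨e, he⟩ := exists_augmentation H.hom h hc φ hφ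
  have hln : IsLocallyNoetherian H.left := LocallyOfFiniteType.isLocallyNoetherian H.hom
  let O : Type u := H.left.presheaf.stalk h
  let : Algebra k O := φ.hom.toAlgebra
  let y : T k O ⟶ H := Over.homMk (H.left.fromSpecStalk h) hφ.symm
  have : Mono y.left := inferInstanceAs (Mono (H.left.fromSpecStalk h))
  have hy : ∀ p, y.left p ∈ gd j Z := by
    intro p
    have h1 : y.left p ∈ Set.range (H.left.fromSpecStalk h) := ⟨p, rfl⟩
    rw [Scheme.range_fromSpecStalk] at h1
    refine h1.mem_open (gd j Z).2 ?_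
    change h ∈ good j.opensRange Z
    rw [hjr]
    exact hgood
  have hcomm : e.hom.comp φ.hom = RingHom.id k := congrArg CommRingCat.Hom.hom he
  let ea : O →ₐ[k] k :=
    { e.hom with
      commutes' := fun r => congrArg (fun q => q r) hcomm }
  refine finrank_le_of_mono j hj hZ (A := A) y hy ea (fun n hn a => ?_) (fun n hn => ?_)
  · have h1 : Function.Bijective (algebraMap k (A ⧸ n)) := by
      have : Algebra.FiniteType k (A ⧸ n) := inferInstance
      let := Ideal.Quotient.field n
      have h2 : Module.Finite k (A ⧸ n) := finite_of_finite_type_of_isJacobsonRing k (A ⧸ n)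
      exact IsAlgClosed.algebraMap_bijective_of_isIntegral
    obtain ⟨c, hc'⟩ := h1.2 (Ideal.Quotient.mk n a)
    refine ⟨c, ?_⟩
    rw [← Ideal.Quotient.eq_zero_iff_mem, map_sub, sub_eq_zero, ← hc']
    rfl
  · let q : PrimeSpectrum A := ⟨n, hn.isPrime⟩
    have hq : IsClosed ({q} : Set (PrimeSpectrum A)) :=
      (PrimeSpectrum.isClosed_singleton_iff_isMaximal q).2 hn
    have hcl : IsClosed ({j q} : Set X) := by
      apply isClosed_singleton_of_isLocallyClosed_singleton
      have h3 : IsLocallyClosed (j '' {q}) := by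
        exact hq.isLocallyClosed.image j.isOpenEmbedding.isInducing j.isOpenEmbedding.isOpen_range.isLocallyClosed
      rwa [Set.image_singleton] at h3
    obtain ⟨hr, h2⟩ := hreg (j q) hcl
    obtain ⟨E⟩ := exists_ringEquiv_localization hU q
    exact ⟨IsRegularLocalRing.of_ringEquiv E, by rw [← ringKrullDim_eq_of_ringEquiv E]; exact h2⟩

end Groth.Agent.HilbD.K759.TanGeo
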